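import Cfsg.Agent.H8.SelfNorm
import Cfsg.Agent.H3.FrobQuo

set_option autoImplicit false

namespace Cfsg.Agent.H8

open Subgroup Cfsg.Agent.H69
open scoped MatrixGroups

variable {K : Type*} [Field K]

/-- Upper triangular matrices whose first diagonal entry is an `m`-th root of unity. -/
def upRoot (K : Type*) [Field K] (m : ℕ) : Subgroup SL(2, K) where
  carrier := {g | g.1 1 0 = 0 ∧ g.1 0 0 ^ m = 1}
  one_mem' := ⟨H66.sl2_one10, by rw [H66.sl2_one00, one_pow]⟩
  mul_mem' := fun {a b} ha hb => ⟨by rw [H66.sl2_mul_apply, ha.1, hb.1]; ring,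
    by rw [H66.sl2_mul_apply, hb.1, mul_zero, add_zero, mul_pow, ha.2, hb.2, mul_one]⟩
  inv_mem' := fun {a} ha => ⟨by rw [H66.sl2_inv10, ha.1, neg_zero], by
    have h := H66.sl2_det a
    rw [ha.1, mul_zero, sub_zero] at h
    have h2 := congrArg (· ^ m) h
    simp only [mul_pow, ha.2, one_mul, one_pow] at h2
    rwa [H66.sl2_inv00]⟩

theorem SN.prime_card_sub_one [Finite K] (h2 : (2 : K) = 0) (h4 : 4 ≤ Nat.card K)
    (h : SN SL(2, K)) : (Nat.card K - 1).Prime := by
  by_contra hp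
  obtain ⟨m, hm, hm2, hlt⟩ := Nat.exists_dvd_of_not_prime2 (by omega) hp
  obtain ⟨μ, hμ⟩ := IsCyclic.exists_ofOrder_eq_natCard (α := Kˣ)
  rw [Nat.card_units] at hμ
  have d00 : ∀ u : Kˣ, (H9.diagHom K u).1 0 0 = u := fun u => rfl
  have d01 : ∀ u : Kˣ, (H9.diagHom K u).1 0 1 = 0 := fun u => rfl
  have d10 : ∀ u : Kˣ, (H9.diagHom K u).1 1 0 = 0 := fun u => rfl
  have d11 : ∀ u : Kˣ, (H9.diagHom K u).1 1 1 = (u⁻¹ : Kˣ) := fun u => rfl
  have hl : orderOf (μ ^ (orderOf μ / m)) = m :=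
    orderOf_pow_orderOf_div (orderOf_pos μ).ne' (hμ ▸ hm)
  generalize μ ^ (orderOf μ / m) = l at hl
  have hconj : ∀ u : Kˣ, ∀ g ∈ upRoot K m, H9.diagHom K u * g * (H9.diagHom K u)⁻¹ ∈ upRoot K m := by
    intro u g hg
    rw [← map_inv]
    refine ⟨by simp only [H66.sl2_mul_apply, d00, d10, d11, hg.1]; ring, ?_⟩
    refine Eq.trans (congrArg (· ^ m) ?_) hg.2
    simp only [H66.sl2_mul_apply, d00, d01, d10, hg.1, mul_zero, add_zero, zero_mul]
    rw [mul_right_comm, Units.mul_inv, one_mul]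
  have hc := h.comm (H := upRoot K m) (g := H9.diagHom K μ) (x := H9.diagHom K l) (y := H66.upT 1)
    (mem_normalizer_fintype (hconj μ)) (fun e => by
      have h1 : μ ^ m = 1 := Units.ext (by simpa [d00] using e.2)
      have := Nat.le_of_dvd (by omega) (orderOf_dvd_of_pow_eq_one h1)
      omega)
    ⟨d10 l, by rw [d00, ← Units.val_pow_eq_pow_val, ← hl, pow_orderOf_eq_one, Units.val_one]⟩
    ⟨rfl, by simp [H66.coe_upT]⟩
  have h01 := congrArg (fun g : SL(2, K) => g.1 0 1) hc.eq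
  simp only [H66.sl2_mul_apply, d00, d01, d11, H66.coe_upT] at h01
  have h3 : (l : K) * l = 1 := by
    have : (l : K) = (l⁻¹ : Kˣ) := by simpa using h01
    nth_rw 2 [this]
    exact l.mul_inv
  have h5 : ((l : K) - 1) ^ 2 = 0 := by linear_combination h3 + (1 - (l : K)) * h2
  have h6 : l = 1 := Units.ext (sub_eq_zero.1 (pow_eq_zero_iff two_ne_zero |>.1 h5))
  rw [h6, orderOf_one] at hl
  omega

theorem sl2e_abC (h2 : (2 : K) = 0) : AbC SL(2, K) := fun _ _ _ ht hx hy =>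
  sl2e_ct h2 (ne_one_of_orderOf_two ht) hx hy

theorem sl2e_zpowers_trans [Finite K] (h2 : (2 : K) = 0) (hp : (Nat.card K - 1).Prime)
    {t d s : SL(2, K)} (ht : orderOf t = 2) (hd : Commute (d * t * d⁻¹) t) (hdt : ¬ Commute d t)
    (hs : s ≠ 1) (hst : Commute s t) : ∃ k ∈ zpowers d, k * t * k⁻¹ = s := by
  have hab := sl2e_abC h2
  have ht1 := ne_one_of_orderOf_two ht
  have hfree : ∀ u : SL(2, K), u ≠ 1 → Commute u t → ∀ k ∈ zpowers d, Commute k u → k = 1 := by
    intro u hu hut k hk hku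
    by_contra hk1
    obtain ⟨i, rfl⟩ := mem_zpowers_iff.1 hk
    exact hdt (sl2e_ct h2 hk1 ((Commute.refl d).zpow_right i) (sl2e_ct h2 hu hku hut.symm).symm)
  have hnorm : zpowers d ≤ normalizer (centralizer ({t} : Set SL(2, K)) : Set SL(2, K)) := by
    rw [zpowers_le]
    refine mem_normalizer_fintype fun u hu => mem_centralizer_singleton.2 ?_
    exact hab _ _ _ ((orderOf_conj' d t).trans ht)
      (by simpa only [MulAut.conj_apply] using (mem_centralizer_singleton.1 hu).map (MulAut.conj d))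
      hd.symm
  have hdvd := H3.relIndex_dvd_card_sub_one (K := ⊥) hnorm fun u hu hu1 k hk =>
    mem_bot.2 (hfree u hu1 (mem_centralizer_singleton.1 hu) k hk.1 (mem_centralizer_singleton.1 hk.2))
  rw [relIndex_bot_left, sl2e_card_cent_invol h2 ht] at hdvd
  have hcard : Nat.card (zpowers d) = Nat.card K - 1 := by
    refine ((Nat.dvd_prime hp).1 hdvd).resolve_left fun e => hdt ?_
    rw [Nat.card_zpowers, orderOf_eq_one_iff] at e
    rw [e]; exact Commute.one_left t
  let f : zpowers d → {u : centralizer ({t} : Set SL(2, K)) // u ≠ 1} := fun k =>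
    ⟨⟨k * t * (k : SL(2, K))⁻¹, conj_mem_of_mem_normalizer (hnorm k.2)
      (mem_centralizer_singleton.2 (Commute.refl t))⟩, fun e => ht1 (by
        simpa using congrArg Subtype.val e)⟩
  have hinj : Function.Injective f := by
    intro a b e
    have e' : (a : SL(2, K)) * t * (a : SL(2, K))⁻¹ = b * t * (b : SL(2, K))⁻¹ :=
      congrArg (fun x => x.1.1) e
    have := hfree t ht1 (Commute.refl t) ((b : SL(2, K))⁻¹ * a) (mul_mem (inv_mem b.2) a.2) (by
      calc (b : SL(2, K))⁻¹ * a * t = (b : SL(2, K))⁻¹ * (a * t * (a : SL(2, K))⁻¹) * a := by group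
        _ = t * ((b : SL(2, K))⁻¹ * a) := by rw [e']; group)
    exact Subtype.ext (inv_mul_eq_one.1 this).symm
  have hbij := hinj.bijective_of_nat_card_le (by
    rw [hcard, ← sl2e_card_cent_invol h2 ht]
    classical
    have := Fintype.ofFinite (centralizer ({t} : Set SL(2, K)))
    simp [Nat.card_eq_fintype_card])
  obtain ⟨k, hk⟩ := hbij.2 ⟨⟨s, mem_centralizer_singleton.2 hst⟩, fun e => hs (congrArg Subtype.val e)⟩
  exact ⟨k, k.2, congrArg (fun x => x.1.1) hk⟩

theorem sn_of_prime [Finite K] (h2 : (2 : K) = 0) (hp : (Nat.card K - 1).Prime) : SN SL(2, K) := by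
  have hab := sl2e_abC h2
  intro H hH
  refine le_antisymm (fun g hg => ?_) le_normalizer
  have heven : Even (Nat.card H) := by
    by_contra ho
    exact hH ⟨⟨sl2e_odd_comm h2 H.subtype (subtype_injective _) (Nat.not_even_iff_odd.1 ho)⟩⟩
  obtain ⟨t, htH, ht⟩ := exists_involution_of_even H heven
  have ht1 := ne_one_of_orderOf_two ht
  have ht2 := mul_self_of_orderOf_two ht
  have hgt : g * t * g⁻¹ ∈ H := conj_mem_of_mem_normalizer hg htH
  have hgt2 : orderOf (g * t * g⁻¹) = 2 := (orderOf_conj' g t).trans ht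
  have fin : ∀ k ∈ H, k * t * k⁻¹ = g * t * g⁻¹ → (Commute (k⁻¹ * g) t → k⁻¹ * g ∈ H) → g ∈ H := by
    intro k hk e hc
    have := H.mul_mem hk (hc (by
      calc k⁻¹ * g * t = k⁻¹ * (g * t * g⁻¹) * g := by group
        _ = t * (k⁻¹ * g) := by rw [← e]; group))
    rwa [mul_inv_cancel_left] at this
  have full : ∀ d ∈ H, Commute (d * t * d⁻¹) t → ¬ Commute d t → ∀ s, Commute s t → s ∈ H := by
    intro d hd h1 h3 s hs
    by_cases hs1 : s = 1
    · rw [hs1]; exact H.one_mem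
    obtain ⟨k, hk, rfl⟩ := sl2e_zpowers_trans h2 hp ht h1 h3 hs1 hs
    exact H.mul_mem (H.mul_mem (zpowers_le.2 hd hk) htH) (H.inv_mem (zpowers_le.2 hd hk))
  by_cases hn : ∃ u ∈ H, orderOf u = 2 ∧ ¬ Commute u t
  swap
  · push Not at hn
    obtain ⟨d, hd, hdt⟩ : ∃ d ∈ H, ¬ Commute d t := by
      by_contra hc
      push Not at hc
      exact hH ⟨⟨fun x y => Subtype.ext (hab t x y ht (hc x x.2) (hc y y.2))⟩⟩
    have h1 := hn _ (H.mul_mem (H.mul_mem hd htH) (H.inv_mem hd)) ((orderOf_conj' d t).trans ht)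
    obtain ⟨k, hk, e⟩ := sl2e_zpowers_trans h2 hp ht h1 hdt (ne_one_of_orderOf_two hgt2)
      (hn _ hgt hgt2)
    exact fin k (zpowers_le.2 hd hk) e (full d hd h1 hdt _)
  obtain ⟨u, huH, hu, hut⟩ := hn
  obtain ⟨k, hk, e⟩ := hab.exists_conj_mem huH htH hu ht hut htH hgt ht hgt2
  refine fin k hk e fun hc => ?_
  by_cases h3 : ∃ s ∈ H, orderOf s = 2 ∧ s ≠ t ∧ Commute s t
  · obtain ⟨s, hsH, hs, hst, hc'⟩ := h3
    obtain ⟨d, hd, e'⟩ := hab.exists_conj_mem huH htH hu ht hut htH hsH ht hs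
    exact full d hd (e' ▸ hc') (fun c => hst (by rw [← e', c.eq, mul_inv_cancel_right])) _ hc
  have hcN : k⁻¹ * g ∈ normalizer (H : Set SL(2, K)) := mul_mem (le_normalizer (H.inv_mem hk)) hg
  generalize k⁻¹ * g = c at hc hcN
  obtain ⟨T, hT⟩ := (IsPGroup.of_card (p := 2) (n := 1) (G := zpowers (⟨t, htH⟩ : H))
    (by rw [Nat.card_zpowers, ← orderOf_coe, ht, pow_one])).exists_le_sylow
  have hTle : (T : Subgroup H) = zpowers (⟨t, htH⟩ : H) := by
    refine le_antisymm (fun x hx => ?_) hT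
    have hx' : Commute (x : SL(2, K)) t :=
      congrArg Subtype.val ((hab.subgroup H).sylow_comm T hx (hT (mem_zpowers _))).eq
    rw [mem_zpowers_of_orderOf_two ((orderOf_coe _).symm.trans ht)]
    by_contra hx2
    push Not at hx2
    exact h3 ⟨x, x.2, orderOf_two_of (sl2e_sq_of_commute h2 ht hx') fun e => hx2.1 (Subtype.ext e),
      fun e => hx2.2 (Subtype.ext e), hx'⟩
  obtain ⟨A, hA⟩ := exists_index_two_of_isCyclic heven T (by rw [hTle]; infer_instance)
  have hAo : Odd (Nat.card A) := by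
    have e1 := A.card_mul_index
    have e2 := (T : Subgroup H).card_mul_index
    have e3 := T.not_dvd_index
    rw [hTle] at e2 e3
    rw [Nat.card_zpowers, ← orderOf_coe, ht] at e2
    rw [hA] at e1
    rw [Nat.odd_iff]
    omega
  have hyo := hab.odd ht2 (mul_self_of_orderOf_two hu) fun c => hut c.symm
  have hyH : t * u ∈ H := H.mul_mem htH huH
  have hy2 : t * u * (t * u) ≠ 1 := fun e => hut (by
    rw [eq_inv_of_mul_eq_one_right (eq_one_of_sq_of_odd hyo e)]; exact (Commute.refl t).inv_left)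
  have hA' : ∀ (y : SL(2, K)) (hy : y ∈ H), Odd (orderOf y) → (⟨y, hy⟩ : H) ∈ A := fun y hy ho =>
    mem_of_sq_mem_of_odd (by rwa [← orderOf_coe]) (sq_mem_of_index_two hA _)
  have hcy : Commute (c * (t * u) * c⁻¹) (t * u) := congrArg (fun x : A => x.1.1)
    (sl2e_odd_comm h2 (H.subtype.comp A.subtype) ((subtype_injective _).comp (subtype_injective _))
      hAo ⟨_, hA' _ (conj_mem_of_mem_normalizer hcN hyH) (by rwa [orderOf_conj'])⟩ ⟨_, hA' _ hyH hyo⟩)
  have key : ∀ x : SL(2, K), Commute x t → Commute x (t * u) → x = 1 := fun x h1 h4 => by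
    by_contra hx
    exact hy2 (sl2e_sq_of_commute h2 ht (sl2e_ct h2 hx h4.symm h1.symm))
  rcases sl2e_conj_or_inv h2 hy2 hcy with e1 | e1
  · rw [key c hc (mul_inv_eq_iff_eq_mul.1 e1)]; exact H.one_mem
  · have e2 := conj_mul_inv ht2 (mul_self_of_orderOf_two hu)
    have := key (t⁻¹ * c) ((Commute.refl t).inv_left.mul_left hc) (by
      calc t⁻¹ * c * (t * u) = t⁻¹ * (c * (t * u) * c⁻¹) * c := by group
        _ = t * u * (t⁻¹ * c) := by rw [e1, ← e2]; group)
    rw [← inv_mul_eq_one.1 this]; exact htH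

end Cfsg.Agent.H8
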