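import Cfsg.Agent.H8.PETools
import Cfsg.Agent.H8.ClsSz
import Cfsg.Agent.H3.NilpotentHall

set_option autoImplicit false

/-! Normal subgroups with two `G`-class sizes. -/

namespace Cfsg.Agent.H8

open Subgroup H83

variable {G : Type*} [Group G] [Finite G]

theorem isNilpotent_of_two_sizes (r : ℕ) [hr : Fact r.Prime] (R : Sylow r G)
    (hR : ¬ (R : Subgroup G) ≤ center G) (N : Subgroup G) [hN : N.Normal]
    (hRN : (R : Subgroup G) ≤ N) (m : ℕ) (h : ∀ x ∈ N, cs(x) = 1 ∨ cs(x) = m) :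
    Group.IsNilpotent N := by
  have hm : ∀ x ∈ N, x ∉ center G → cs(x) = m := fun x hx hz =>
    (h x hx).resolve_left fun e => hz (cs_eq_one_iff.1 e)
  have hF : ∀ x ∈ N, ∀ y ∈ N, x ∉ center G → y ∉ center G →
      centralizer ({x} : Set G) ≤ centralizer {y} → centralizer ({x} : Set G) = centralizer {y} :=
    fun x hx y hy hxz hyz hle => eq_of_le_of_index_eq hle ((hm x hx hxz).trans (hm y hy hyz).symm)
  have hcp : ∀ x ∈ N, ∀ y ∈ N, x ∉ center G → Commute x y → (orderOf x).Coprime (orderOf y) →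
      centralizer ({x} : Set G) ≤ centralizer {y} := by
    intro x hx y hy hxz hc hcop
    have h1 := cent_mul_of_coprime hc hcop
    rw [← hF _ (N.mul_mem hx hy) x hx (mul_not_mem_center hc hcop hxz) hxz (h1 ▸ inf_le_left), h1]
    exact inf_le_right
  have hrN : ∀ v, PE r v → v ∈ N := fun v hv => mem_of_PE_of_sylow_le R hRN hv
  obtain ⟨w, hwR, hwz⟩ := SetLike.not_le_iff_exists.1 hR
  have hw : PE r w := PE.of_mem R.2 hwR
  by_cases hq : ∀ q : ℕ, q.Prime → q ≠ r → ∀ v ∈ N, PE q v → v ∈ center G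
  · have h1 : IsPGroup r (N ⧸ (center G).subgroupOf N) :=
      isPGroup_quotient_of_forall (fun q hq' hqr v hv => hq q hq' hqr v v.2 (PE.coe.2 hv)) hr.out
    have := h1.isNilpotent
    refine Subgroup.isNilpotent_of_ker_le_center (QuotientGroup.mk' ((center G).subgroupOf N)) ?_
    rw [QuotientGroup.ker_mk']
    exact fun x hx => mem_center_iff.2 fun y => Subtype.ext (mem_center_iff.1 hx y)
  push Not at hq
  obtain ⟨q, hq, hqr, y, hyN, hy, hyz⟩ := hq
  by_cases hrm : ¬ r ∣ m
  · have hNR : N ≤ centralizer ((R : Subgroup G) : Set G) := by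
      have : N ⊓ centralizer ((R : Subgroup G) : Set G) = N := by
        refine eq_of_forall_conj_mem inf_le_left fun x hx => ?_
        have hx' : ¬ r ∣ cs(x) := by
          rcases h x hx with e | e <;> rw [e]
          · exact hr.out.not_dvd_one
          · exact hrm
        obtain ⟨g, hg⟩ := exists_conj_mem_cent_sylow R hx'
        have hg' : g ∈ ((normalizer ((R : Subgroup G) : Set G) ⊔ N : Subgroup G) : Set G) := by
          exact (eq_top_iff' _).1 (Sylow.normalizer_sup_eq_top' R hRN) g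
        rw [mul_normal] at hg'
        obtain ⟨a, ha, n, hn, rfl⟩ := hg'
        refine ⟨n, hn, hN.conj_mem x hx n, fun ρ hρ => ?_⟩
        have h2 := hg _ ((mem_normalizer_iff.1 ha ρ).1 hρ)
        calc ρ * (n * x * n⁻¹) = a⁻¹ * (a * ρ * a⁻¹ * (a * n * x * (a * n)⁻¹)) * a := by group
          _ = n * x * n⁻¹ * ρ := by rw [h2]; group
      exact this ▸ inf_le_right
    have hcomm : N ≤ centralizer (N : Set G) := by
      refine le_of_forall_PE fun p hp v hv hpv n hn => ?_
      by_cases hpr : p = r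
      · subst hpr
        obtain ⟨g, -, hg⟩ := exists_conj_mem_of_not_dvd (le_top : (R : Subgroup G) ≤ ⊤) hp
          (by rw [relIndex_top_right]; exact R.not_dvd_index) (mem_top v) hpv
        have h2 := hNR (hN.conj_mem n hn g) _ hg
        calc n * v = g⁻¹ * (g * n * g⁻¹ * (g * v * g⁻¹)) * g := by group
          _ = v * n := by rw [← h2]; group
      · refine mem_cent.1 (hcp w (hRN hwR) v hv hwz (hNR hv w hwR)
          (PE.coprime_orderOf hr.out hp (Ne.symm hpr) hw hpv) ?_)
        exact mem_cent.2 (hNR hn w hwR).symm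
    let _ : CommGroup N := { (inferInstance : Group N) with
      mul_comm := fun a b => Subtype.ext (hcomm b.2 a a.2) }
    exact CommGroup.isNilpotent
  exfalso
  push Not at hrm
  set D := centralizer ({y} : Set G) with hD
  obtain ⟨x, hxD, hx, hxz⟩ : ∃ x ∈ D, PE r x ∧ x ∉ center G := by
    refine exists_PE_of_dvd_relIndex hr.out ?_
    rw [← relIndex_eq_of_index_eq (center_le_centralizer _) (center_le_centralizer _)
      ((hm w (hRN hwR) hwz).trans (hm y hyN hyz).symm)]
    exact dvd_relIndex_center hr.out (self_mem_cent w) hw hwz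
  have hxy : Commute x y := mem_cent.1 hxD
  have hxD' : centralizer ({x} : Set G) = D := hF x (hrN x hx) y hyN hxz hyz
    (hcp x (hrN x hx) y hyN hxz hxy (PE.coprime_orderOf hr.out hq hqr.symm hx hy))
  set K := N ⊓ D with hK
  have hyK : y ∈ K := ⟨hyN, self_mem_cent y⟩
  have hKc : K ≤ centralizer (D : Set G) := by
    refine le_of_forall_PE fun p hp v hv hpv d hd => mem_cent.1 ?_
    by_cases hpr : p = r
    · subst hpr
      exact hcp y hyN v hv.1 hyz (mem_cent.1 hv.2).symm
        (PE.coprime_orderOf hq hp hqr hy hpv) hd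
    · exact hcp x (hrN x hx) v hv.1 hxz (mem_cent.1 (hxD' ▸ hv.2 : v ∈ centralizer {x})).symm
        (PE.coprime_orderOf hr.out hp (Ne.symm hpr) hx hpv) (hxD' ▸ hd)
  have hKD : ∀ k ∈ K, k ∉ center G → centralizer ({k} : Set G) = D := fun k hk hkz =>
    (hF y hyN k hk.1 hyz hkz fun d hd => mem_cent.2 (hKc hk d hd)).symm
  have hcomm : ∀ a ∈ K, ∀ b ∈ K, Commute a b := fun a ha b hb => hKc hb a ha.2
  have hCK : centralizer (K : Set G) = D :=
    le_antisymm (centralizer_le (Set.singleton_subset_iff.2 hyK))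
      fun d hd k hk => (hKc hk d hd).symm
  have hND : normalizer (D : Set G) ≤ normalizer (K : Set G) := fun g hg =>
    mem_normalizer_iff.2 fun k => by
      rw [hK, mem_inf, mem_inf, ← mem_normalizer_iff.1 hg k]
      refine and_congr_left fun _ => ⟨fun h => hN.conj_mem k h g, fun h => ?_⟩
      have := hN.conj_mem _ h g⁻¹
      simpa [mul_assoc] using this
  have hfix : ∀ e, e ∉ centralizer (K : Set G) → ∀ u ∈ K, Commute e u → u ∈ center G := by
    intro e he u hu hc
    by_contra huz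
    exact he (hCK ▸ hKD u hu huz ▸ mem_cent.2 hc)
  obtain ⟨g, -, hgD, hg, hgN⟩ := exists_PE_mem_normalizer (le_top : D ≤ ⊤) hr.out
    (by rw [relIndex_top_right, hD, hm y hyN hyz]; exact hrm)
    (fun a ha b hb h1 h2 => hcomm a ⟨hrN a h1, ha⟩ b ⟨hrN b h2, hb⟩) ⟨x, hxD, hx, hxz⟩
    (fun u hu h1 h2 => by rw [top_inf_eq, hKD u ⟨hrN u h1, hu⟩ h2])
  have hE : ∀ e ∈ normalizer (K : Set G), ∃ k : ℕ, e ^ r ^ k ∈ D := fun e he => by
    rw [← hCK]
    exact pow_mem_cent_of_few_fixed hcomm le_rfl hr.out ⟨x, ⟨hrN x hx, hxD⟩, hx, hxz⟩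
      (fun e _ he u hu _ hc => hfix e he u hu hc)
      (fun e _ he => ⟨q, hq, hqr, ⟨y, hyK, hy, hyz⟩, fun v hv _ hc => hfix e he v hv hc,
        fun g _ hg _ v hv _ hc => hfix g hg v hv hc⟩) (hND hgN) hg (hCK ▸ hgD) he
  have hqr' : ∀ k, q.Coprime (r ^ k) := fun k =>
    ((Nat.coprime_primes hq hr.out).2 hqr).pow_right k
  have hB : ¬ q ∣ K.relIndex N := by
    intro hd
    obtain ⟨e, heN, heK, he, hen⟩ := exists_PE_mem_normalizer (inf_le_left : K ≤ N) hq hd
      (fun a ha b hb _ _ => hcomm a ha b hb) ⟨y, hyK, hy, hyz⟩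
      (fun u hu _ h2 => by rw [hKD u hu h2])
    obtain ⟨k, hk⟩ := hE e hen
    exact heK ⟨heN, he.mem_of_pow_mem (hqr' k) hk⟩
  have hDN : D ⊔ N = ⊤ := by
    rw [eq_top_iff']
    intro a
    obtain ⟨n, hn, hna⟩ := exists_conj_mem_of_not_dvd (inf_le_left : K ≤ N) hq hB
      (hN.conj_mem y hyN a) (hy.conj a)
    have h1 : n * a ∈ normalizer (D : Set G) := by
      refine mem_normalizer_of_cent (H := ⊤) (u := y) (le_normalizer (mem_top _))
        (top_inf_eq _) ?_
      have e : n * a * y * (n * a)⁻¹ = n * (a * y * a⁻¹) * n⁻¹ := by group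
      rw [top_inf_eq, e]
      exact hKD _ hna (conj_not_mem_center (conj_not_mem_center hyz a) n)
    have h2 : n * a ∈ D ⊔ N := by
      refine mem_of_forall_PE _ _ fun p hp v hv hpv => ?_
      by_cases hpr : p = r
      · exact mem_sup_right (hrN v (hpr ▸ hpv))
      · obtain ⟨k, hk⟩ := hE v (hND (zpowers_le.2 h1 hv))
        exact mem_sup_left (hpv.mem_of_pow_mem
          (((Nat.coprime_primes hp hr.out).2 hpr).pow_right k) hk)
    have := mul_mem (inv_mem (mem_sup_right hn : n ∈ D ⊔ N)) h2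
    simpa using this
  have hmK : K.relIndex N = m := by
    rw [hK, inf_relIndex_left, ← index_eq_relIndex_of_sup hDN, hD, hm y hyN hyz]
  have hKN : K = N := by
    refine eq_of_forall_conj_mem inf_le_left fun a ha => ?_
    by_cases haz : a ∈ center G
    · exact ⟨1, N.one_mem, by simpa using ⟨ha, center_le_centralizer _ haz⟩⟩
    obtain ⟨u, hu, hqu, huz⟩ : ∃ u ∈ N ⊓ centralizer {a}, PE q u ∧ u ∉ center G := by
      refine exists_PE_of_dvd_relIndex hq ?_
      have h1 : ∀ X : Subgroup G, center G ≤ X → (center G).relIndex (N ⊓ X) *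
          (N ⊓ X).relIndex N = (center G).relIndex N := fun X hX => by
        have := relIndex_mul_relIndex (center G ⊓ N) (N ⊓ X) N
          (le_inf inf_le_right (inf_le_left.trans hX)) inf_le_left
        rwa [inf_relIndex_right, ← inf_relIndex_right (center G ⊓ N), inf_assoc, ← inf_assoc N,
          inf_idem, inf_relIndex_right] at this
      obtain ⟨c, hc⟩ : (N ⊓ centralizer {a}).relIndex N ∣ m := by
        rw [inf_relIndex_left, ← hm a ha haz, ← cs_subgroup N ⟨a, ha⟩]
        exact cs_normal_dvd N ⟨a, ha⟩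
      have h2 := h1 _ (center_le_centralizer {a})
      rw [← h1 D (center_le_centralizer _), ← hK, hmK, hc, mul_comm _ c, ← mul_assoc] at h2
      rw [Nat.eq_of_mul_eq_mul_right (Nat.pos_of_ne_zero FiniteIndex.index_ne_zero) h2]
      exact (dvd_relIndex_center hq hyK hy hyz).mul_right c
    obtain ⟨n, hn, hnu⟩ := exists_conj_mem_of_not_dvd (inf_le_left : K ≤ N) hq hB hu.1 hqu
    refine ⟨n, hn, hN.conj_mem a ha n, ?_⟩
    rw [← hKD _ hnu (conj_not_mem_center huz n)]
    refine mem_cent.2 ?_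
    calc n * a * n⁻¹ * (n * u * n⁻¹) = n * (a * u) * n⁻¹ := by group
      _ = n * u * n⁻¹ * (n * a * n⁻¹) := by rw [← mem_cent.1 hu.2]; group
  rw [hKN, relIndex_self] at hmK
  exact hr.out.not_dvd_one (hmK ▸ hrm)

/-- Itô: a group with two class sizes is a `p`-group modulo its centre. -/
theorem exists_prime_of_two_sizes (n : ℕ) (h : ∀ x : G, cs(x) = 1 ∨ cs(x) = n)
    (hex : ∃ x : G, x ∉ center G) :
    Group.IsNilpotent G ∧ ∃ p : ℕ, p.Prime ∧ ∀ q : ℕ, q.Prime → q ≠ p → ∀ v : G, PE q v →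
      v ∈ center G := by
  obtain ⟨x, hx⟩ := hex
  obtain ⟨p, hp, y, -, hy, hyz⟩ := exists_PE_of_not_mem hx
  have := Fact.mk hp
  obtain ⟨P, hP⟩ := hy.isPGroup_zpowers.exists_le_sylow
  have h1 := isNilpotent_of_two_sizes p P (fun e => hyz (e (hP (mem_zpowers y)))) ⊤ le_top n
    fun x _ => h x
  have h2 : Group.IsNilpotent G := Group.nilpotent_of_mulEquiv topEquiv
  refine ⟨h2, p, hp, fun q hq hqp v hv => ?_⟩
  by_contra hvz
  have hcm : ∀ a b : G, (orderOf a).Coprime (orderOf b) → Commute a b := fun a b hab =>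
    H3.commute_of_coprime_orderOf a b hab
  have hcop := PE.coprime_orderOf hp hq (Ne.symm hqp) hy hv
  have h3 := cent_mul_of_coprime (hcm y v hcop) hcop
  have hm : ∀ x : G, x ∉ center G → cs(x) = n := fun x hz =>
    (h x).resolve_left fun e => hz (cs_eq_one_iff.1 e)
  have h4 := hm _ (mul_not_mem_center (hcm y v hcop) hcop hyz)
  have h5 := eq_of_le_of_index_eq (h3 ▸ inf_le_left) (h4.trans (hm y hyz).symm)
  have h6 := eq_of_le_of_index_eq (h3 ▸ inf_le_right) (h4.trans (hm v hvz).symm)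
  suffices H : (⊤ : Subgroup G) ≤ centralizer {y} from
    hyz (mem_center_iff.2 fun g => mem_cent.1 (H (mem_top g)))
  refine le_of_forall_PE fun s hs u _ hu => ?_
  by_cases hsp : s = p
  · rw [← h5, h6]
    exact mem_cent.2 (hcm u v (PE.coprime_orderOf hs hq (hsp ▸ Ne.symm hqp) hu hv))
  · exact mem_cent.2 (hcm u y (PE.coprime_orderOf hs hp hsp hu hy))

end Cfsg.Agent.H8
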