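import Cfsg.Agent.H8.ELem
import Cfsg.Agent.H8.BaerSuzuki
import Cfsg.Agent.H3.PResidual
import Cfsg.Agent.H83.ClassSize

set_option autoImplicit false

/-! Elementary tools on elements of prime-power order and centralizers. -/

namespace Cfsg.Agent.H8

open Subgroup H83

variable {G : Type*} [Group G] [Finite G]

theorem mem_of_forall_PE (H : Subgroup G) (x : G)
    (h : ∀ p : ℕ, p.Prime → ∀ y ∈ zpowers x, PE p y → y ∈ H) : x ∈ H := by
  induction hn : orderOf x using Nat.strong_induction_on generalizing x with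
  | _ n ih =>
    by_cases h1 : n = 1
    · rw [h1, orderOf_eq_one_iff] at hn
      rw [hn]; exact H.one_mem
    obtain ⟨p, hp, hpn⟩ := Nat.exists_prime_and_dvd h1
    have := Fact.mk hp
    obtain ⟨a, b, ha, hb, hpa, hcb, e⟩ := H3.exists_p_part (p := p) x
    rw [e]
    refine H.mul_mem (h p hp a ha hpa) (ih (orderOf b) ?_ b
      (fun q hq y hy hqy => h q hq y (zpowers_le.2 hb hy) hqy) rfl)
    have hd : orderOf b ∣ n := hn ▸ orderOf_dvd_of_mem_zpowers hb
    refine lt_of_le_of_ne (Nat.le_of_dvd (hn ▸ orderOf_pos x) hd) fun e' => ?_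
    exact (Nat.Prime.coprime_iff_not_dvd hp).1 hcb.symm (e' ▸ hpn)

theorem exists_PE_of_not_mem {H : Subgroup G} {x : G} (hx : x ∉ H) :
    ∃ p : ℕ, p.Prime ∧ ∃ y ∈ zpowers x, PE p y ∧ y ∉ H := by
  by_contra hc
  push Not at hc
  exact hx (mem_of_forall_PE H x hc)

theorem le_of_forall_PE {H K : Subgroup G} (h : ∀ p : ℕ, p.Prime → ∀ y ∈ K, PE p y → y ∈ H) :
    K ≤ H := fun x hx =>
  mem_of_forall_PE H x fun p hp y hy => h p hp y (zpowers_le.2 hx hy)

theorem exists_PE_of_dvd_relIndex {Y X : Subgroup G} {p : ℕ} (hp : p.Prime)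
    (h : p ∣ Y.relIndex X) : ∃ v ∈ X, PE p v ∧ v ∉ Y := by
  have := Fact.mk hp
  by_contra hc
  push Not at hc
  obtain ⟨S⟩ : Nonempty (Sylow p X) := inferInstance
  have : (S : Subgroup X) ≤ Y.subgroupOf X := fun v hv =>
    hc v v.2 (PE.coe.2 (PE.of_mem S.2 hv))
  exact S.not_dvd_index (h.trans (index_dvd_of_le this))

omit [Finite G] in
theorem dvd_relIndex_of_PE {Y X : Subgroup G} (hY : X ≤ normalizer (Y : Set G)) {p : ℕ}
    (hp : p.Prime) {v : G} (hv : v ∈ X) (hpv : PE p v) (hvY : v ∉ Y) : p ∣ Y.relIndex X := by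
  have : (Y.subgroupOf X).Normal := normal_subgroupOf_of_le_normalizer hY
  have h1 : PE p (QuotientGroup.mk' (Y.subgroupOf X) ⟨v, hv⟩) :=
    (PE.coe.1 hpv : PE p (⟨v, hv⟩ : X)).map _
  obtain ⟨k, hk⟩ := h1.orderOf_eq hp
  have hk0 : k ≠ 0 := by
    rintro rfl
    rw [pow_zero, orderOf_eq_one_iff] at hk
    exact hvY (mem_subgroupOf.1 ((QuotientGroup.eq_one_iff (⟨v, hv⟩ : X)).1 hk))
  exact (dvd_pow_self p hk0).trans (hk ▸ orderOf_dvd_natCard _)

omit [Finite G] in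
theorem dvd_relIndex_center {X : Subgroup G} {p : ℕ} (hp : p.Prime) {v : G} (hv : v ∈ X)
    (hpv : PE p v) (hvY : v ∉ center G) : p ∣ (center G).relIndex X :=
  dvd_relIndex_of_PE (by rw [normalizer_eq_top]; exact le_top) hp hv hpv hvY

theorem relIndex_eq_of_index_eq {Y K K' : Subgroup G} (h : Y ≤ K) (h' : Y ≤ K')
    (e : K.index = K'.index) : Y.relIndex K = Y.relIndex K' := by
  have h1 := relIndex_mul_index h
  rw [← relIndex_mul_index h', e] at h1
  exact Nat.eq_of_mul_eq_mul_right (Nat.pos_of_ne_zero FiniteIndex.index_ne_zero) h1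

theorem eq_of_le_of_index_eq {K K' : Subgroup G} (h : K ≤ K') (e : K.index = K'.index) :
    K = K' := by
  have := relIndex_eq_of_index_eq le_rfl h e
  rw [relIndex_self] at this
  exact le_antisymm h (relIndex_eq_one.1 this.symm)

theorem index_eq_relIndex_of_sup {N D : Subgroup G} [N.Normal] (h : D ⊔ N = ⊤) :
    D.index = D.relIndex N := by
  have h1 : N.index = N.relIndex D := by rw [← relIndex_sup_right, h, relIndex_top_right]
  have h2 := relIndex_mul_index (inf_le_right : N ⊓ D ≤ D)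
  have h3 := relIndex_mul_index (inf_le_left : N ⊓ D ≤ N)
  rw [inf_relIndex_right, ← h1] at h2
  rw [inf_relIndex_left, ← h2, mul_comm] at h3
  exact (Nat.eq_of_mul_eq_mul_left (Nat.pos_of_ne_zero FiniteIndex.index_ne_zero) h3).symm

theorem exists_conj_mem_of_not_dvd {K H : Subgroup G} (hKH : K ≤ H) {p : ℕ} (hp : p.Prime)
    (h : ¬ p ∣ K.relIndex H) {v : G} (hv : v ∈ H) (hpv : PE p v) :
    ∃ n ∈ H, n * v * n⁻¹ ∈ K := by
  have := Fact.mk hp
  obtain ⟨P, hP⟩ := not_dvd_index_iff.1 h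
  obtain ⟨Q, hQ⟩ := (PE.coe.1 hpv : PE p (⟨v, hv⟩ : H)).isPGroup_zpowers.exists_le_sylow
  obtain ⟨n, hn⟩ := MulAction.exists_smul_eq H Q P
  refine ⟨n, n.2, ?_⟩
  have h1 : n * ⟨v, hv⟩ * n⁻¹ ∈ (P : Subgroup H) := by
    rw [← hn]
    exact smul_mem_pointwise_smul _ (MulAut.conj n) _ (hQ (mem_zpowers _))
  exact hP h1

/-- Growth lemma. -/
theorem exists_PE_normalizes {K H : Subgroup G} (hKH : K ≤ H) {s : ℕ} (hs : s.Prime)
    (hd : s ∣ K.relIndex H) (hc : ∀ a ∈ K, ∀ b ∈ K, PE s a → PE s b → Commute a b) :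
    ∃ g ∈ H, g ∉ K ∧ PE s g ∧ ∀ v ∈ K, PE s v → g * v * g⁻¹ ∈ K := by
  have := Fact.mk hs
  let S : Subgroup G :=
    { carrier := {v | v ∈ K ∧ PE s v}
      mul_mem' := fun {a b} ha hb => ⟨K.mul_mem ha.1 hb.1, ha.2.mul hb.2 (hc a ha.1 b hb.1 ha.2 hb.2)⟩
      one_mem' := ⟨K.one_mem, PE.one⟩
      inv_mem' := fun {a} ha => ⟨K.inv_mem ha.1, ha.2.inv⟩ }
  have hS : IsPGroup s (S.subgroupOf H) := fun v => PE.coe.1 (PE.coe.1 v.2.2)
  obtain ⟨P, hP⟩ := hS.exists_le_sylow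
  have hlt : S.subgroupOf H < P := by
    refine lt_of_le_of_ne hP fun e => P.not_dvd_index (hd.trans (index_dvd_of_le ?_))
    rw [← e]; exact fun v hv => hv.1
  obtain ⟨g, hgP, hgS, hgn⟩ := exists_mem_normalizer_of_lt P.2 hlt
  have hg : PE s (g : G) := PE.coe.2 (PE.of_mem P.2 hgP)
  refine ⟨g, g.2, fun h => hgS ⟨h, hg⟩, hg, fun v hv hsv => ?_⟩
  exact ((mem_normalizer_iff.1 hgn ⟨v, hKH hv⟩).1 ⟨hv, hsv⟩).1

omit [Finite G] in
theorem conj_not_mem_center {u : G} (hu : u ∉ center G) (g : G) : g * u * g⁻¹ ∉ center G :=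
  fun h => hu (by
    have := (inferInstance : (center G).Normal).conj_mem _ h g⁻¹
    simpa [mul_assoc] using this)

omit [Finite G] in
theorem mem_normalizer_of_cent {K H : Subgroup G} {g u : G} (hg : g ∈ normalizer (H : Set G))
    (h1 : H ⊓ centralizer {u} = K) (h2 : H ⊓ centralizer {g * u * g⁻¹} = K) :
    g ∈ normalizer (K : Set G) := by
  rw [mem_normalizer_iff]
  intro k
  conv_lhs => rw [← h1]
  rw [← h2, mem_inf, mem_inf, mem_cent, mem_cent, ← mem_normalizer_iff.1 hg k]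
  refine and_congr_right fun _ => ⟨fun e => ?_, fun e => ?_⟩
  · calc g * k * g⁻¹ * (g * u * g⁻¹) = g * (k * u) * g⁻¹ := by group
      _ = g * u * g⁻¹ * (g * k * g⁻¹) := by rw [e]; group
  · calc k * u = g⁻¹ * (g * k * g⁻¹ * (g * u * g⁻¹)) * g := by group
      _ = u * k := by rw [e]; group

theorem exists_PE_mem_normalizer {K H : Subgroup G} (hKH : K ≤ H) {s : ℕ} (hs : s.Prime)
    (hd : s ∣ K.relIndex H) (hc : ∀ a ∈ K, ∀ b ∈ K, PE s a → PE s b → Commute a b)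
    (hu : ∃ u ∈ K, PE s u ∧ u ∉ center G)
    (hK : ∀ u ∈ K, PE s u → u ∉ center G → H ⊓ centralizer {u} = K) :
    ∃ g ∈ H, g ∉ K ∧ PE s g ∧ g ∈ normalizer (K : Set G) := by
  obtain ⟨g, hgH, hgK, hg, h⟩ := exists_PE_normalizes hKH hs hd hc
  obtain ⟨u, huK, hu, huZ⟩ := hu
  exact ⟨g, hgH, hgK, hg, mem_normalizer_of_cent (le_normalizer hgH) (hK u huK hu huZ)
    (hK _ (h u huK hu) (hu.conj g) (conj_not_mem_center huZ g))⟩

omit [Finite G] in
theorem mul_not_mem_center {x y : G} (hc : Commute x y) (hcop : (orderOf x).Coprime (orderOf y))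
    (hx : x ∉ center G) : x * y ∉ center G :=
  fun h => hx (zpowers_le.2 h (mem_zpowers_mul_left hc hcop))

theorem mem_of_PE_of_sylow_le {p : ℕ} [Fact p.Prime] (R : Sylow p G) {N : Subgroup G} [hN : N.Normal]
    (h : (R : Subgroup G) ≤ N) {v : G} (hv : PE p v) : v ∈ N := by
  obtain ⟨n, -, hn⟩ := exists_conj_mem_of_not_dvd (le_top : N ≤ ⊤) (Fact.out : p.Prime)
    (by rw [relIndex_top_right]; exact fun e => R.not_dvd_index (e.trans (index_dvd_of_le h)))
    (mem_top v) hv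
  have := hN.conj_mem _ hn n⁻¹
  simpa [mul_assoc] using this

theorem eq_of_forall_conj_mem {K H : Subgroup G} (hKH : K ≤ H)
    (h : ∀ x ∈ H, ∃ n ∈ H, n * x * n⁻¹ ∈ K) : K = H := by
  refine le_antisymm hKH (subgroupOf_eq_top.1 (eq_top_of_forall_conj_mem fun x => ?_))
  obtain ⟨n, hn, h⟩ := h x x.2
  exact ⟨⟨n, hn⟩, h⟩

theorem isPGroup_quotient_of_forall {p : ℕ} {N : Subgroup G} [N.Normal]
    (h : ∀ q : ℕ, q.Prime → q ≠ p → ∀ v : G, PE q v → v ∈ N) (hp : p.Prime) :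
    IsPGroup p (G ⧸ N) := by
  have := Fact.mk hp
  refine IsPGroup.iff_card.2 ⟨_, Nat.eq_prime_pow_of_unique_prime_dvd Nat.card_pos.ne' ?_⟩
  intro q hq hd
  by_contra hne
  obtain ⟨v, -, hv, hvN⟩ := exists_PE_of_dvd_relIndex (Y := N) (X := ⊤) hq
    (by rwa [relIndex_top_right])
  exact hvN (h q hq hne v hv)

end Cfsg.Agent.H8
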