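import Mathlib
import Cfsg.Agent.H78.Norm
import Cfsg.Agent.S0071

set_option autoImplicit false

/-! A group acting on an abelian group with few fixed points modulo a central subgroup. -/

namespace Cfsg.Agent.H8

open Subgroup

/-- `x` is a `p`-element. -/
def PE {G : Type*} [Group G] (p : ℕ) (x : G) : Prop := ∃ k : ℕ, x ^ p ^ k = 1

section PE

variable {G : Type*} [Group G] {p q : ℕ}

theorem PE.one : PE p (1 : G) := ⟨0, by simp⟩

theorem PE.mul {x y : G} (hx : PE p x) (hy : PE p y) (h : Commute x y) : PE p (x * y) := by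
  obtain ⟨a, ha⟩ := hx
  obtain ⟨b, hb⟩ := hy
  refine ⟨a + b, ?_⟩
  rw [h.mul_pow, pow_add, pow_mul, ha, one_pow, mul_comm (p ^ a), pow_mul, hb, one_pow, one_mul]

theorem PE.inv {x : G} (hx : PE p x) : PE p x⁻¹ := by
  obtain ⟨a, ha⟩ := hx
  exact ⟨a, by rw [inv_pow, ha, inv_one]⟩

theorem PE.pow {x : G} (hx : PE p x) (n : ℕ) : PE p (x ^ n) := by
  obtain ⟨a, ha⟩ := hx
  exact ⟨a, by rw [← pow_mul, mul_comm, pow_mul, ha, one_pow]⟩

theorem PE.map {H : Type*} [Group H] {x : G} (hx : PE p x) (f : G →* H) : PE p (f x) := by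
  obtain ⟨a, ha⟩ := hx
  exact ⟨a, by rw [← map_pow, ha, map_one]⟩

theorem PE.conj {x : G} (hx : PE p x) (g : G) : PE p (g * x * g⁻¹) := by
  obtain ⟨a, ha⟩ := hx
  exact ⟨a, by rw [conj_pow, ha, mul_one, mul_inv_cancel]⟩

theorem PE.coe {H : Subgroup G} {x : H} : PE p (x : G) ↔ PE p x :=
  ⟨fun ⟨a, ha⟩ => ⟨a, Subtype.ext (by simpa using ha)⟩, fun h => h.map H.subtype⟩

theorem PE.of_mem {P : Subgroup G} (hP : IsPGroup p P) {x : G} (hx : x ∈ P) : PE p x :=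
  PE.coe.2 (hP ⟨x, hx⟩)

theorem PE.orderOf_dvd {x : G} (hx : PE p x) : ∃ k, orderOf x ∣ p ^ k := by
  obtain ⟨a, ha⟩ := hx
  exact ⟨a, orderOf_dvd_of_pow_eq_one ha⟩

theorem PE.orderOf_eq (hp : p.Prime) {x : G} (hx : PE p x) : ∃ k, orderOf x = p ^ k := by
  obtain ⟨a, ha⟩ := hx.orderOf_dvd
  obtain ⟨k, -, hk⟩ := (Nat.dvd_prime_pow hp).1 ha
  exact ⟨k, hk⟩

theorem PE.of_orderOf {x : G} {k : ℕ} (hx : orderOf x = p ^ k) : PE p x :=
  ⟨k, by rw [← hx, pow_orderOf_eq_one]⟩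

theorem PE.coprime {x : G} (hx : PE p x) {n : ℕ} (h : p.Coprime n) : (orderOf x).Coprime n := by
  obtain ⟨a, ha⟩ := hx.orderOf_dvd
  exact (h.pow_left a).coprime_dvd_left ha

theorem PE.coprime_orderOf (hp : p.Prime) (hq : q.Prime) (hpq : p ≠ q) {x y : G} (hx : PE p x)
    (hy : PE q y) : (orderOf x).Coprime (orderOf y) :=
  hx.coprime (hy.coprime ((Nat.coprime_primes hq hp).2 hpq.symm)).symm

theorem PE.isPGroup_zpowers {x : G} (hx : PE p x) : IsPGroup p (zpowers x) := by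
  rintro ⟨_, i, rfl⟩
  obtain ⟨a, ha⟩ := hx
  refine ⟨a, Subtype.ext ?_⟩
  show (x ^ i) ^ p ^ a = 1
  rw [← zpow_natCast, ← zpow_mul, mul_comm, zpow_mul, zpow_natCast, ha, one_zpow]

theorem PE.mem_of_pow_mem {x : G} (hx : PE p x) {n : ℕ} (h : p.Coprime n) {H : Subgroup G}
    (hn : x ^ n ∈ H) : x ∈ H := by
  obtain ⟨m, hm⟩ := exists_pow_eq_self_of_coprime (hx.coprime h).symm
  rw [← hm]; exact H.pow_mem hn m

end PE

section Abstract

variable {E V : Type*} [Group E] [CommGroup V]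

theorem norm_ident (φ : E →* MulAut V) (F : Subgroup E) [Fintype F] (x : E)
    (hx : x ∈ normalizer (F : Set E)) (m : ℕ) (hm : 0 < m)
    (hinj : ∀ j, 0 < j → j < m → ∀ f g : F, (x * f) ^ j = (x * g) ^ j → f = g)
    (S : Subgroup V) (hS : ∀ e, ∀ s ∈ S, φ e s ∈ S) (v : V)
    (hF : ∏ f : F, φ f v ∈ S)
    (hz : ∀ f : F, ∏ j ∈ Finset.range m, φ ((x * f) ^ j) v ∈ S) :
    v ^ Nat.card F ∈ S := by
  have hmem : ∀ (j : ℕ) (f : F), (x ^ j)⁻¹ * (x * f) ^ j ∈ F := by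
    intro j f
    induction j with
    | zero => simp
    | succ j ih =>
      have h1 : (x ^ (j + 1))⁻¹ * (x * f) ^ (j + 1) =
          (x⁻¹ * ((x ^ j)⁻¹ * (x * f) ^ j) * x⁻¹⁻¹) * f := by
        rw [pow_succ x, pow_succ (x * f)]; group
      rw [h1]
      exact F.mul_mem ((mem_normalizer_iff.mp ((normalizer (F : Set E)).inv_mem hx) _).mp ih) f.2
  have h1 : ∏ f : F, ∏ j ∈ Finset.range m, φ ((x * f) ^ j) v ∈ S :=
    S.prod_mem fun f _ => hz f
  rw [Finset.prod_comm] at h1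
  obtain ⟨k, rfl⟩ := Nat.exists_eq_add_of_le' hm
  rw [Finset.prod_range_succ'] at h1
  have h2 : ∏ j ∈ Finset.range k, ∏ f : F, φ ((x * f) ^ (j + 1)) v ∈ S := by
    refine S.prod_mem fun j hj => ?_
    rw [Finset.mem_range] at hj
    let e : F → F := fun f => ⟨_, hmem (j + 1) f⟩
    have he : Function.Bijective e := by
      apply Finite.injective_iff_bijective.mp
      intro f g hfg
      apply hinj (j + 1) (by omega) (by omega)
      exact mul_left_cancel (congrArg Subtype.val hfg)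
    have h2 : ∀ f : F, φ ((x * f) ^ (j + 1)) v = φ (x ^ (j + 1)) (φ (e f) v) := by
      intro f
      rw [← MulAut.mul_apply, ← map_mul]
      simp [e]
    simp_rw [h2]
    rw [← map_prod, he.prod_comp (fun g : F => φ g v)]
    exact hS _ _ hF
  have h3 := S.mul_mem (S.inv_mem h2) h1
  simpa [Nat.card_eq_fintype_card] using h3

theorem PE.norm {p : ℕ} (φ : E →* MulAut V) {ι : Type*} (s : Finset ι) (f : ι → E) {v : V}
    (hv : PE p v) : PE p (∏ i ∈ s, φ (f i) v) := by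
  obtain ⟨k, hk⟩ := hv
  refine ⟨k, ?_⟩
  rw [← Finset.prod_pow]
  exact Finset.prod_eq_one fun i _ => by rw [← map_pow, hk, map_one]

variable [Finite E] [Finite V]

theorem false_of_normalizes (φ : E →* MulAut V) (Z : Subgroup V)
    (hZ : ∀ e, ∀ z ∈ Z, φ e z = z) {r : ℕ} (hr : r.Prime) (hu : ∃ u, PE r u ∧ u ∉ Z)
    (E1 : ∀ e, e ≠ 1 → ∀ u, PE r u → φ e u = u → u ∈ Z) {g : E} (hg1 : g ≠ 1) (hg : PE r g)
    {L : Subgroup E} (hL1 : L ≠ ⊥) (hL : ¬ r ∣ Nat.card L) (hgL : g ∈ normalizer (L : Set E)) :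
    False := by
  classical
  have := Fact.mk hr
  have := Fintype.ofFinite L
  have hcop : r.Coprime (Nat.card L) := (Nat.Prime.coprime_iff_not_dvd hr).2 hL
  let W : Subgroup V :=
    { carrier := {v | PE r v ∧ ∏ l : L, φ l v = 1}
      mul_mem' := fun {a b} ha hb => ⟨ha.1.mul hb.1 (Commute.all a b), by
        simp only [map_mul, Finset.prod_mul_distrib, ha.2, hb.2, mul_one]⟩
      one_mem' := ⟨PE.one, by simp⟩
      inv_mem' := fun {a} ha => ⟨ha.1.inv, by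
        simp only [map_inv, Finset.prod_inv_distrib, ha.2, inv_one]⟩ }
  have hWinv : ∀ a ∈ normalizer (L : Set E), ∀ w ∈ W, φ a w ∈ W := by
    intro a ha w hw
    refine ⟨hw.1.map (φ a).toMonoidHom, ?_⟩
    have h1 : ∀ l : L, a⁻¹ * l * a ∈ L := fun l => by
      have := (mem_normalizer_iff.1 (inv_mem ha) l).1 l.2
      simpa using this
    let e : L → L := fun l => ⟨_, h1 l⟩
    have he : Function.Bijective e := by
      apply Finite.injective_iff_bijective.mp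
      intro f g hfg
      have := congrArg Subtype.val hfg
      exact Subtype.ext (by simpa [e] using this)
    have h2 : ∀ l : L, φ l (φ a w) = φ a (φ (e l) w) := by
      intro l
      rw [← MulAut.mul_apply, ← map_mul, ← MulAut.mul_apply, ← map_mul]
      simp [e, mul_assoc]
    simp_rw [h2]
    rw [← map_prod, he.prod_comp (fun g : L => φ g w), hw.2, map_one]
  have hWZ : ∀ w ∈ W, w ∈ Z → w = 1 := by
    intro w hw hz
    have h1 := hw.2
    simp only [hZ _ w hz, Finset.prod_const, Finset.card_univ, ← Nat.card_eq_fintype_card] at h1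
    exact mem_bot.1 (hw.1.mem_of_pow_mem hcop (mem_bot.2 h1))
  have hW1 : W ≠ ⊥ := by
    intro hW
    obtain ⟨u, hu, huZ⟩ := hu
    obtain ⟨l, hl, hl1⟩ := (bot_or_exists_ne_one L).resolve_left hL1
    have hN : PE r (∏ l : L, φ l u) := PE.norm φ _ (fun l : L => (l : E)) hu
    have hNZ : ∏ l : L, φ l u ∈ Z := E1 l hl1 _ hN (H78.norm_fixed φ L u l hl)
    obtain ⟨m, hm⟩ := exists_pow_eq_self_of_coprime (hN.coprime hcop).symm
    set z := (∏ l : L, φ l u) ^ m with hz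
    have hzZ : z ∈ Z := Z.pow_mem hNZ m
    have : u * z⁻¹ ∈ W := by
      refine ⟨hu.mul (hN.pow m).inv (Commute.all _ _), ?_⟩
      simp only [map_mul, Finset.prod_mul_distrib, hZ _ _ (Z.inv_mem hzZ), Finset.prod_const,
        Finset.card_univ, ← Nat.card_eq_fintype_card]
      rw [inv_pow, hz, ← pow_mul, mul_comm m, pow_mul, hm, mul_inv_cancel]
    rw [hW, mem_bot, mul_inv_eq_one] at this
    exact huZ (this ▸ hzZ)
  have hle : zpowers g ≤ normalizer (L : Set E) := zpowers_le.2 hgL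
  let act : MulAction (zpowers g) W :=
    { smul := fun a w => ⟨φ a w, hWinv a (hle a.2) w w.2⟩
      one_smul := fun w => Subtype.ext (by show φ 1 w = w; simp)
      mul_smul := fun a b w => Subtype.ext (by show φ (a * b) w = φ a (φ b w); simp) }
  have hWp : IsPGroup r W := fun w => PE.coe.1 w.2.1
  have hdvd : r ∣ Nat.card W := by
    obtain ⟨k, hk0, hk⟩ := hWp.nontrivial_iff_card.1 ((nontrivial_iff_ne_bot _).2 hW1)
    exact hk ▸ dvd_pow_self r hk0.ne'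
  obtain ⟨b, hb, hb1⟩ := hg.isPGroup_zpowers.exists_fixed_point_of_prime_dvd_card_of_fixed_point W
    hdvd (a := 1) (fun a => Subtype.ext (by show φ a 1 = 1; simp))
  have h1 : φ g b = b := congrArg Subtype.val (hb ⟨g, mem_zpowers g⟩)
  exact hb1 (Subtype.ext (hWZ b b.2 (E1 g hg1 b b.2.1 h1)).symm)

theorem isPGroup_of_few_fixed (φ : E →* MulAut V) (Z : Subgroup V)
    (hZ : ∀ e, ∀ z ∈ Z, φ e z = z) {r : ℕ} (hr : r.Prime) (hu : ∃ u, PE r u ∧ u ∉ Z)
    (E1 : ∀ e, e ≠ 1 → ∀ u, PE r u → φ e u = u → u ∈ Z)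
    (E2 : ∀ h, h ≠ 1 → ∃ t : ℕ, t.Prime ∧ t ≠ r ∧ (∃ v, PE t v ∧ v ∉ Z) ∧
      (∀ v, PE t v → φ h v = v → v ∈ Z) ∧ ∀ g, g ≠ 1 → PE r g → ∀ v, PE t v → φ g v = v → v ∈ Z)
    {g : E} (hg1 : g ≠ 1) (hg : PE r g) : IsPGroup r E := by
  classical
  have := Fact.mk hr
  obtain ⟨P⟩ : Nonempty (Sylow r E) := inferInstance
  by_cases hc : ∃ N : Subgroup E, N.Normal ∧ N.IsComplement' (P : Subgroup E)
  · obtain ⟨N, hN, hc⟩ := hc
    by_cases hN1 : N = ⊥
    · subst hN1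
      have hP : (P : Subgroup E) = ⊤ := isComplement'_bot_left.1 hc
      exact (hP ▸ P.2 : IsPGroup r (⊤ : Subgroup E)).of_equiv topEquiv
    · refine (false_of_normalizes φ Z hZ hr hu E1 hg1 hg hN1 ?_ ?_).elim
      · rw [← hc.index_eq_card]; exact P.not_dvd_index
      · rw [normalizer_eq_top]; exact mem_top g
  exfalso
  rw [S0071.result P] at hc
  push Not at hc
  obtain ⟨Q, hQP, h, hhQ, hcop, hhc⟩ := hc
  have hQ : IsPGroup r Q := P.2.to_le hQP
  have hQ1 : Q ≠ ⊥ := fun e => hhc (by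
    intro y hy
    rw [e] at hy
    rw [mem_bot.1 hy, one_mul, mul_one])
  have hh1 : orderOf h ≠ 1 := fun e => hhc (by rw [orderOf_eq_one_iff.1 e]; exact one_mem _)
  obtain ⟨s, hs, hsd⟩ := Nat.exists_prime_and_dvd hh1
  obtain ⟨x, hxh, hx⟩ := H78.exists_orderOf_of_dvd hsd
  have hxQ : x ∈ normalizer (Q : Set E) := zpowers_le.2 hhQ hxh
  have hx1 : x ≠ 1 := fun e => hs.ne_one (by rw [← hx, e, orderOf_one])
  have hsr : ¬ r ∣ s := fun e => (Nat.Prime.coprime_iff_not_dvd hr).1 hcop.symm (e.trans hsd)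
  have hfpf : ∀ y ∈ Q, y * x = x * y → y = 1 := by
    intro y hy hxy
    by_contra hy1
    refine false_of_normalizes φ Z hZ hr hu E1 hy1 (PE.of_mem hQ hy) (L := zpowers x)
      (fun e => hx1 (zpowers_eq_bot.1 e)) (by rwa [Nat.card_zpowers, hx]) ?_
    refine centralizer_le_normalizer _ ?_
    rintro _ ⟨i, rfl⟩
    exact ((show Commute x y from hxy.symm).zpow_left i).eq
  have hconj : ∀ f : Q, ∃ y : E, x * f = y * x * y⁻¹ := by
    have h1 : ∀ y : Q, x⁻¹ * y * x * (y : E)⁻¹ ∈ Q := fun y => by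
      refine Q.mul_mem ?_ (Q.inv_mem y.2)
      have := (mem_normalizer_iff.1 (inv_mem hxQ) y).1 y.2
      simpa using this
    let e : Q → Q := fun y => ⟨_, h1 y⟩
    have he : Function.Injective e := by
      intro a b hab
      have h2 : x⁻¹ * a * x * (a : E)⁻¹ = x⁻¹ * b * x * (b : E)⁻¹ := congrArg Subtype.val hab
      have h3 := hfpf ((b : E)⁻¹ * a) (Q.mul_mem (Q.inv_mem b.2) a.2) (by
        calc (b : E)⁻¹ * a * x = (b : E)⁻¹ * x * (x⁻¹ * a * x * (a : E)⁻¹) * a := by group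
          _ = x * ((b : E)⁻¹ * a) := by rw [h2]; group)
      exact Subtype.ext (inv_mul_eq_one.1 h3).symm
    intro f
    obtain ⟨y, hy⟩ := Finite.injective_iff_surjective.1 he f
    refine ⟨y, ?_⟩
    rw [← hy]; simp only [e]; group
  obtain ⟨t, ht, htr, ⟨v, hv, hvZ⟩, h1, h2⟩ := E2 x hx1
  have := Fintype.ofFinite Q
  have hpow : ∀ f : Q, (x * f) ^ s = 1 := fun f => by
    obtain ⟨y, hy⟩ := hconj f
    rw [hy, conj_pow, ← hx, pow_orderOf_eq_one, mul_one, mul_inv_cancel]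
  have key := norm_ident φ Q x hxQ s hs.pos ?_ Z (fun e z hz => by rwa [hZ e z hz]) v ?_ ?_
  · obtain ⟨k, hk⟩ := IsPGroup.iff_card.1 hQ
    exact hvZ (hv.mem_of_pow_mem (hk ▸ ((Nat.coprime_primes ht hr).2 htr).pow_right k) key)
  · intro j hj0 hjs a b hab
    obtain ⟨m, -, hm⟩ := Nat.exists_mul_mod_eq_one_of_coprime
      ((Nat.coprime_of_lt_prime hj0.ne' hjs hs).symm) hs.one_lt
    have h3 : ∀ f : Q, ((x * f) ^ j) ^ m = x * f := fun f => by
      rw [← pow_mul, ← Nat.div_add_mod (j * m) s, hm, pow_add, pow_mul, hpow, one_pow, one_mul,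
        pow_one]
    have := h3 a
    rw [hab, h3] at this
    exact Subtype.ext (mul_left_cancel this).symm
  · obtain ⟨l, hl, hl1⟩ := (bot_or_exists_ne_one Q).resolve_left hQ1
    exact h2 l hl1 (PE.of_mem hQ hl) _ (PE.norm φ _ (fun l : Q => (l : E)) hv)
      (H78.norm_fixed φ Q v l hl)
  · intro f
    obtain ⟨y, hy⟩ := hconj f
    have h3 := H78.norm_pow_fixed φ (x * f) s (by rw [hpow, map_one]) v
    have h4 : PE t (∏ j ∈ Finset.range s, φ ((x * f) ^ j) v) := PE.norm φ _ _ hv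
    set w := ∏ j ∈ Finset.range s, φ ((x * f) ^ j) v
    have h5 : φ y⁻¹ w ∈ Z := by
      refine h1 _ (h4.map (φ y⁻¹).toMonoidHom) ?_
      conv_rhs => rw [← h3, hy]
      rw [← MulAut.mul_apply, ← map_mul, ← MulAut.mul_apply, ← map_mul]
      congr 2; group
    have h6 := hZ y _ h5
    rw [← MulAut.mul_apply, ← map_mul, mul_inv_cancel, map_one, MulAut.one_apply] at h6
    rw [h6]; exact h5

end Abstract

/-- Ambient form. -/
theorem pow_mem_cent_of_few_fixed {G : Type*} [Group G] [Finite G] {K N : Subgroup G}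
    (hK : ∀ a ∈ K, ∀ b ∈ K, Commute a b) (hN : N ≤ normalizer (K : Set G)) {r : ℕ} (hr : r.Prime)
    (hu : ∃ u ∈ K, PE r u ∧ u ∉ center G)
    (E1 : ∀ e ∈ N, e ∉ centralizer (K : Set G) → ∀ u ∈ K, PE r u → Commute e u → u ∈ center G)
    (E2 : ∀ h ∈ N, h ∉ centralizer (K : Set G) → ∃ t : ℕ, t.Prime ∧ t ≠ r ∧
      (∃ v ∈ K, PE t v ∧ v ∉ center G) ∧ (∀ v ∈ K, PE t v → Commute h v → v ∈ center G) ∧
      ∀ g ∈ N, g ∉ centralizer (K : Set G) → (∃ k : ℕ, g ^ r ^ k ∈ centralizer (K : Set G)) →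
        ∀ v ∈ K, PE t v → Commute g v → v ∈ center G)
    {g : G} (hgN : g ∈ N) (hg : PE r g) (hgK : g ∉ centralizer (K : Set G)) {h : G} (hh : h ∈ N) :
    ∃ k : ℕ, h ^ r ^ k ∈ centralizer (K : Set G) := by
  let inst : CommGroup K := { (inferInstance : Group K) with
    mul_comm := fun a b => Subtype.ext (hK a a.2 b b.2).eq }
  let ψ : N →* MulAut K := (normalizerMonoidHom K).comp (inclusion hN)
  have hψ : ∀ (n : N) (k : K), ((ψ n k : K) : G) = n * k * (n : G)⁻¹ := fun n k => rfl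
  have hone : ∀ n : N, ψ n = 1 ↔ (n : G) ∈ centralizer (K : Set G) := by
    intro n
    constructor
    · intro e k hk
      have := hψ n ⟨k, hk⟩
      rw [e] at this
      simp only [MulAut.one_apply] at this
      conv_lhs => rw [this]
      group
    · intro e
      ext k
      rw [hψ, ← e k k.2]; simp
  have hfix : ∀ (n : N) (k : K), ψ n k = k → Commute (n : G) k := fun n k e => by
    have := hψ n k
    rw [e] at this
    show (n : G) * k = k * n
    conv_rhs => rw [this]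
    group
  have hne : ∀ (n : N), (⟨ψ n, n, rfl⟩ : ψ.range) ≠ 1 → (n : G) ∉ centralizer (K : Set G) :=
    fun n e e' => e (Subtype.ext ((hone n).2 e'))
  have key := isPGroup_of_few_fixed (E := ψ.range) ψ.range.subtype ((center G).subgroupOf K) ?_ hr
    ?_ ?_ ?_ (g := ⟨ψ ⟨g, hgN⟩, _, rfl⟩) (fun e => hgK ((hone ⟨g, hgN⟩).1 (congrArg Subtype.val e)))
    (PE.coe.1 ((PE.coe.1 hg : PE r (⟨g, hgN⟩ : N)).map ψ))
  · obtain ⟨k, hk⟩ := key ⟨ψ ⟨h, hh⟩, _, rfl⟩
    refine ⟨k, (hone (⟨h, hh⟩ ^ r ^ k)).1 ?_⟩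
    rw [map_pow]; exact congrArg Subtype.val hk
  · rintro ⟨_, n, rfl⟩ z hz
    refine Subtype.ext ?_
    show ((ψ n z : K) : G) = z
    rw [hψ, mem_center_iff.1 (mem_subgroupOf.1 hz)]; group
  · obtain ⟨u, huK, hu, huZ⟩ := hu
    exact ⟨⟨u, huK⟩, PE.coe.1 hu, huZ⟩
  · rintro ⟨_, n, rfl⟩ hn u hu e
    exact E1 n n.2 (hne n hn) u u.2 (PE.coe.2 hu) (hfix n u e)
  · rintro ⟨_, n, rfl⟩ hn
    obtain ⟨t, ht, htr, ⟨v, hvK, hv, hvZ⟩, h1, h2⟩ := E2 n n.2 (hne n hn)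
    refine ⟨t, ht, htr, ⟨⟨v, hvK⟩, PE.coe.1 hv, hvZ⟩, fun w hw e =>
      h1 w w.2 (PE.coe.2 hw) (hfix n w e), ?_⟩
    rintro ⟨_, a, rfl⟩ ha ⟨k, hk⟩ w hw e
    refine h2 a a.2 (hne a ha) ⟨k, (hone (a ^ r ^ k)).1 ?_⟩ w w.2 (PE.coe.2 hw) (hfix a w e)
    rw [map_pow]; exact congrArg Subtype.val hk

end Cfsg.Agent.H8
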