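import Mathlib
import Cfsg.Agent.H92.SylIn
import Cfsg.Agent.H5.Wielandt
import Cfsg.Agent.H21.Basic
import Cfsg.Agent.S0023
import Cfsg.Agent.S0024
import Cfsg.Agent.S0025

/-! The Navarro-Rizo fixed point formula for a `p`-group acting coprimely. -/

set_option autoImplicit false

namespace Cfsg.Agent.H8

open Subgroup Cfsg Cfsg.Agent.H92 Finset
open scoped Pointwise

variable {X : Type*} [Group X]

theorem sylIn_card_eq [Finite X] {q : ℕ} [Fact q.Prime] {R H : Subgroup X} (h : SylIn q R H) :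
    Nat.card R = q ^ (Nat.card H).factorization q := by
  rw [← h.toSylow.card_eq_multiplicity, h.coe_toSylow]
  exact (Nat.card_congr (subgroupOfEquivOfLe h.le).toEquiv).symm

/-- Coprime action: an invariant Sylow subgroup meets the fixed points in a Sylow subgroup. -/
theorem sylIn_inf_centralizer [Finite X] (A K : Subgroup X) (hAK : A ≤ normalizer (K : Set X))
    (hcop : (Nat.card A).Coprime (Nat.card K)) (hsolv : Group.IsSolvable A ∨ Group.IsSolvable K)
    {q : ℕ} [Fact q.Prime] (Q : Sylow q K)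
    (hQ : A ≤ normalizer ((Q : Subgroup K).map K.subtype : Set X)) :
    SylIn q ((Q : Subgroup K).map K.subtype ⊓ centralizer (A : Set X)) (K ⊓ centralizer (A : Set X)) := by
  obtain ⟨U, hU⟩ := exists_sylIn q (K ⊓ centralizer (A : Set X))
  obtain ⟨P, hUP, hP⟩ := S0025.result A K hAK hcop hsolv q U (hU.le.trans inf_le_left) hU.pgroup
    (H21.le_normalizer_of_le_centralizer (le_centralizer_iff.1 (hU.le.trans inf_le_right)))
  obtain ⟨c, hc, rfl⟩ := S0024.result A K hAK hcop hsolv q P Q hP hQ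
  refine hU.of_card_le (inf_le_inf_right _ (map_subtype_le _))
    (((MulAut.conj c • P).isPGroup'.map _).to_le inf_le_left) ?_
  refine Nat.card_le_card_of_injective (fun u => ⟨c * u * (c : X)⁻¹, ?_, ?_⟩) ?_
  · obtain ⟨v, hv, hv'⟩ := hUP u.2
    refine ⟨MulAut.conj c • v, smul_mem_pointwise_smul _ _ _ hv, ?_⟩
    rw [← hv']; simp
  · exact (centralizer (A : Set X)).mul_mem ((centralizer (A : Set X)).mul_mem hc (hU.le u.2).2)
      ((centralizer (A : Set X)).inv_mem hc)
  · intro u v h
    have := congrArg Subtype.val h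
    simp only [mul_left_inj, mul_right_inj] at this
    exact Subtype.ext this

theorem sum_range_pow_eq [Finite X] {R : Type*} [CommSemiring R] (τ : X → R) (y : X) (k : ℕ) :
    ∑ i ∈ range (k * orderOf y), τ (y ^ i) = (k : R) * ∑ᶠ a ∈ zpowers y, τ a := by
  classical
  have h1 : ∑ᶠ a ∈ zpowers y, τ a = ∑ i ∈ range (orderOf y), τ (y ^ i) := by
    have e : ((zpowers y : Subgroup X) : Set X) = ↑((range (orderOf y)).image (y ^ ·)) := by
      ext a
      rw [SetLike.mem_coe, mem_coe, mem_zpowers_iff_mem_range_orderOf]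
    change ∑ᶠ a ∈ ((zpowers y : Subgroup X) : Set X), τ a = _
    rw [e, finsum_mem_coe_finset, sum_image]
    intro i hi j hj h
    exact pow_injOn_Iio_orderOf (by simpa using hi) (by simpa using hj) h
  rw [h1]
  induction k with
  | zero => simp
  | succ k ih =>
    rw [Nat.succ_mul, sum_range_add, ih]
    simp only [pow_add, mul_comm k, pow_mul, pow_orderOf_eq_one, one_pow, one_mul]
    push_cast; ring

theorem sum_range_mul_eq {R : Type*} [AddCommMonoid R] (f : ℕ → R) (p n : ℕ) :
    ∑ i ∈ range (p * n), f i = ∑ j ∈ range n, ∑ r ∈ range p, f (p * j + r) := by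
  induction n with
  | zero => simp
  | succ n ih => rw [Nat.mul_succ, sum_range_add, ih, sum_range_succ]

theorem navarro_rizo_solvable [Finite X] {P : Type*} [Group P] [Fintype P] {p : ℕ} [hp : Fact p.Prime]
    (hP : IsPGroup p P) (φ : P →* X) (H : Subgroup X) (hn : φ.range ≤ normalizer (H : Set X))
    (hcop : (Nat.card φ.range).Coprime (Nat.card H)) (hsolv : Group.IsSolvable H) :
    ∏ x : P, Nat.card ↥(H ⊓ centralizer (zpowers (φ x) : Set X)) ^ p =
      (∏ x : P, Nat.card ↥(H ⊓ centralizer (zpowers (φ (x ^ p)) : Set X))) *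
        Nat.card ↥(H ⊓ centralizer (φ.range : Set X)) ^ ((p - 1) * Nat.card P) := by
  classical
  set n := Nat.card P with hn'
  have hd : ∀ x : P, orderOf (φ x) ∣ n := fun x => (orderOf_map_dvd φ x).trans (orderOf_dvd_natCard x)
  have hK : Nat.card φ.ker * Nat.card φ.range = n := by
    rw [← index_ker]; exact card_mul_index _
  have h := H5.wielandt_fixpoint φ.range (ι := P) (κ := Option P) (fun x => zpowers (φ x))
    (fun o => o.elim φ.range fun x => zpowers (φ (x ^ p)))
    (fun x => (zpowers_le).2 ⟨x, rfl⟩)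
    (by rintro (_ | x); exacts [le_rfl, (zpowers_le).2 ⟨_, rfl⟩])
    (fun x => p * n / orderOf (φ x))
    (fun o => o.elim ((p - 1) * n * Nat.card φ.ker) fun x => n / orderOf (φ (x ^ p))) ?_ H hn hcop hsolv
  · rw [Fintype.prod_option] at h
    simp only [Option.elim, Nat.card_zpowers] at h
    have e1 : ∀ x : P, p * n / orderOf (φ x) * orderOf (φ x) = p * n := fun x =>
      Nat.div_mul_cancel (Dvd.dvd.mul_left (hd x) p)
    have e2 : ∀ x : P, n / orderOf (φ (x ^ p)) * orderOf (φ (x ^ p)) = n := fun x =>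
      Nat.div_mul_cancel (hd _)
    simp only [e1, e2] at h
    rw [mul_assoc, hK] at h
    apply Nat.pow_left_injective (n := n) Nat.card_pos.ne'
    simp only [mul_pow, ← prod_pow, ← pow_mul]
    rw [h, mul_comm]
  · intro q τ _
    rw [Fintype.sum_option]
    simp only [Option.elim]
    have e1 : ∀ x : P, ((p * n / orderOf (φ x) : ℕ) : ZMod q) * ∑ᶠ a ∈ zpowers (φ x), τ a
        = ∑ j ∈ range n, ∑ r ∈ range p, τ (φ (x ^ (p * j + r))) := fun x => by
      rw [← sum_range_pow_eq, Nat.div_mul_cancel (Dvd.dvd.mul_left (hd x) p), sum_range_mul_eq]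
      simp only [map_pow]
    have e2 : ∀ x : P, ((n / orderOf (φ (x ^ p)) : ℕ) : ZMod q) * ∑ᶠ a ∈ zpowers (φ (x ^ p)), τ a
        = ∑ j ∈ range n, τ (φ (x ^ (p * j + 0))) := fun x => by
      rw [← sum_range_pow_eq, Nat.div_mul_cancel (hd _)]
      simp only [map_pow, add_zero, pow_mul]
    have e3 : (Nat.card φ.ker : ZMod q) * ∑ᶠ a ∈ φ.range, τ a = ∑ x : P, τ (φ x) := by
      have e : ((φ.range : Subgroup X) : Set X) = ↑(univ.image φ) := by
        ext a; simp
      change _ * ∑ᶠ a ∈ ((φ.range : Subgroup X) : Set X), τ a = _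
      rw [e, finsum_mem_coe_finset, mul_sum, sum_comp τ φ]
      refine sum_congr rfl fun a ha => ?_
      obtain ⟨x, -, rfl⟩ := mem_image.1 ha
      rw [nsmul_eq_mul]
      congr 2
      rw [MonoidHom.card_fiber_eq_of_mem_range φ ⟨x, rfl⟩ ⟨1, map_one φ⟩, Nat.card_eq_fintype_card,
        Fintype.card_subtype]
      simp only [MonoidHom.mem_ker]
    have e4 : ∀ j r : ℕ, r + 1 < p → ∑ x : P, τ (φ (x ^ (p * j + (r + 1)))) = ∑ x : P, τ (φ x) := by
      intro j r hr
      obtain ⟨k, hk⟩ := hP.exists_card_eq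
      have hc : (Nat.card P).Coprime (p * j + (r + 1)) := by
        rw [hk]
        apply Nat.Coprime.pow_left
        rw [Nat.coprime_mul_left_add_right]
        exact (Nat.coprime_of_lt_prime (Nat.succ_ne_zero r) hr hp.out)
      exact Equiv.sum_comp (powCoprime hc) (fun x => τ (φ x))
    simp only [e1, e2]
    push_cast
    rw [mul_assoc, e3, sum_comm, sum_comm (s := univ) (t := range n)]
    obtain ⟨s, rfl⟩ : ∃ s, p = s + 1 := ⟨p - 1, (Nat.succ_pred_eq_of_pos hp.out.pos).symm⟩
    have e5 : ∀ j ∈ range n, ∑ x : P, ∑ r ∈ range (s + 1), τ (φ (x ^ ((s + 1) * j + r)))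
        = (s : ZMod q) * ∑ x : P, τ (φ x) + ∑ x : P, τ (φ (x ^ ((s + 1) * j + 0))) := by
      intro j _
      rw [sum_comm, sum_range_succ', sum_congr rfl fun r hr => e4 j r (by simpa using hr), sum_const,
        card_range, nsmul_eq_mul]
    rw [sum_congr rfl e5, sum_add_distrib, sum_const, card_range, nsmul_eq_mul, Nat.add_sub_cancel]
    ring

/-- The Navarro-Rizo formula. -/
theorem navarro_rizo [Finite X] {P : Type*} [Group P] [Fintype P] {p : ℕ} [hp : Fact p.Prime]
    (hP : IsPGroup p P) (φ : P →* X) (H : Subgroup X) (hn : φ.range ≤ normalizer (H : Set X))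
    (hcop : (Nat.card H).Coprime p) :
    ∏ x : P, Nat.card ↥(H ⊓ centralizer (zpowers (φ x) : Set X)) ^ p =
      (∏ x : P, Nat.card ↥(H ⊓ centralizer (zpowers (φ (x ^ p)) : Set X))) *
        Nat.card ↥(H ⊓ centralizer (φ.range : Set X)) ^ ((p - 1) * Nat.card P) := by
  have hR : IsPGroup p φ.range := hP.of_surjective φ.rangeRestrict φ.rangeRestrict_surjective
  have hc : ∀ {Y K : Subgroup X}, Y ≤ φ.range → K ≤ H → (Nat.card Y).Coprime (Nat.card K) := by
    intro Y K hY hK
    obtain ⟨k, hk⟩ := (hR.to_le hY).exists_card_eq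
    rw [hk]
    exact ((hcop.coprime_dvd_left (card_dvd_of_le hK)).pow_right k).symm
  have hs : ∀ {Y : Subgroup X}, Y ≤ φ.range → Group.IsSolvable Y := fun hY => by
    have := (hR.to_le hY).isNilpotent
    infer_instance
  have h0 : ∀ K : Subgroup X, Nat.card K ≠ 0 := fun K => Nat.card_pos.ne'
  apply Nat.eq_of_factorization_eq
  · exact prod_ne_zero_iff.2 fun x _ => pow_ne_zero _ (h0 _)
  · exact mul_ne_zero (prod_ne_zero_iff.2 fun x _ => h0 _) (pow_ne_zero _ (h0 _))
  intro q
  by_cases hq : q.Prime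
  swap
  · rw [Nat.factorization_eq_zero_of_not_prime _ hq, Nat.factorization_eq_zero_of_not_prime _ hq]
  have := Fact.mk hq
  obtain ⟨Q, hQ⟩ := S0023.result φ.range H hn (hc le_rfl le_rfl) (Or.inl (hs le_rfl)) q
  have h1 : ∀ {Y : Subgroup X}, Y ≤ φ.range →
      Nat.card ↥((Q : Subgroup H).map H.subtype ⊓ centralizer (Y : Set X))
        = q ^ (Nat.card ↥(H ⊓ centralizer (Y : Set X))).factorization q := fun hY =>
    sylIn_card_eq (sylIn_inf_centralizer _ H (hY.trans hn) (hc hY le_rfl) (Or.inl (hs hY)) Q (hY.trans hQ))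
  have h2 := navarro_rizo_solvable hP φ ((Q : Subgroup H).map H.subtype) hQ (hc le_rfl (map_subtype_le _))
    (by have := (Q.isPGroup'.map H.subtype).isNilpotent; infer_instance)
  have h3 : ∀ x : P, zpowers (φ x) ≤ φ.range := fun x => (zpowers_le).2 ⟨x, rfl⟩
  simp only [h1 (h3 _), h1 le_rfl, ← pow_mul, prod_pow_eq_pow_sum, ← pow_add] at h2
  have h4 := Nat.pow_right_injective hq.two_le h2
  rw [Nat.factorization_mul (prod_ne_zero_iff.2 fun x _ => h0 _) (pow_ne_zero _ (h0 _)),
    Nat.factorization_prod fun x _ => pow_ne_zero _ (h0 _), Nat.factorization_prod fun x _ => h0 _]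
  simp only [Nat.factorization_pow, Finsupp.coe_add, Pi.add_apply, Finsupp.finsetSum_apply,
    Finsupp.smul_apply, smul_eq_mul]
  rw [mul_comm ((p - 1) * Nat.card P), ← h4]
  exact sum_congr rfl fun x _ => mul_comm _ _

end Cfsg.Agent.H8
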