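import Mathlib
import Cfsg.Agent.H61.OrbitSum

/-! Critical coprime automorphisms of prime order of `p`-groups (the normal Sylow subgroup of a Schmidt group). -/

set_option autoImplicit false

namespace Cfsg.Agent.H8.Sch

open Subgroup
open scoped commutatorElement

section Field
variable {p q a : ℕ} {K : Type*} [Field K] [Finite K]

theorem inv_mem_subring (S : Subring K) (x : K) (hx : x ∈ S) : x⁻¹ ∈ S := by
  by_cases h0 : x = 0
  · simp [h0]
  have := Fintype.ofFinite K
  have h1 := FiniteField.pow_card_sub_one_eq_one x h0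
  obtain ⟨n, hn⟩ : ∃ n, Fintype.card K - 1 = n + 1 := ⟨Fintype.card K - 2, by
    have := Fintype.one_lt_card (α := K); omega⟩
  rw [hn, pow_succ] at h1
  rw [← eq_inv_of_mul_eq_one_left h1]
  exact S.pow_mem hx n

/-- multipliers of an additive subgroup -/
def stab (W : AddSubgroup K) : Subfield K :=
  Subring.toSubfield
    { carrier := {c | ∀ w ∈ W, c * w ∈ W}
      mul_mem' := fun hc hd w hw => by rw [mul_assoc]; exact hc _ (hd w hw)
      one_mem' := fun w hw => by rwa [one_mul]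
      add_mem' := fun hc hd w hw => by rw [add_mul]; exact W.add_mem (hc w hw) (hd w hw)
      zero_mem' := fun w _ => by rw [zero_mul]; exact W.zero_mem
      neg_mem' := fun hc w hw => by rw [neg_mul]; exact W.neg_mem (hc w hw) } (inv_mem_subring _)

theorem mem_stab {W : AddSubgroup K} {c : K} : c ∈ stab W ↔ ∀ w ∈ W, c * w ∈ W := Iff.rfl

theorem sub_card [hp : Fact p.Prime] (hK : Nat.card K = p ^ a) (F : Subfield K) :
    ∃ b d, Nat.card F = p ^ b ∧ a = b * d := by
  obtain ⟨b, -, hb⟩ := (Nat.dvd_prime_pow hp.out).1 (hK ▸ F.toAddSubgroup.card_addSubgroup_dvd_card)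
  have h1 := Module.natCard_eq_pow_finrank (K := F) (V := K)
  have h2 : Nat.card F = p ^ b := hb
  rw [hK, h2, ← pow_mul] at h1
  exact ⟨b, _, h2, Nat.pow_right_injective hp.out.two_le h1⟩

theorem irr [hp : Fact p.Prime] [Fact q.Prime] (hK : Nat.card K = p ^ a) (ha : a = orderOf (p : ZMod q))
    {ζ : K} (hζ : IsPrimitiveRoot ζ q) (W : AddSubgroup K) (hW : ∀ w ∈ W, ζ * w ∈ W) {w : K} (hw : w ∈ W)
    (h0 : w ≠ 0) (c : K) : c ∈ W := by
  obtain ⟨b, d, h1, h2⟩ := sub_card hK (stab W)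
  have := Fintype.ofFinite (stab W)
  have h3 : (⟨ζ, hW⟩ : stab W) ≠ 0 := fun e => hζ.ne_zero (NeZero.ne q) (congrArg Subtype.val e)
  have h4 : ζ ^ (p ^ b - 1) = 1 := by
    have := congrArg Subtype.val (FiniteField.pow_card_sub_one_eq_one _ h3)
    rwa [← Nat.card_eq_fintype_card, h1] at this
  have h5 : (p : ZMod q) ^ b = 1 := by
    have := (ZMod.natCast_eq_zero_iff _ _).2 ((hζ.pow_eq_one_iff_dvd _).1 h4)
    rw [Nat.cast_sub (Nat.one_le_pow _ _ hp.out.pos), sub_eq_zero] at this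
    simpa using this
  have h6 : a = b := Nat.dvd_antisymm (ha ▸ orderOf_dvd_of_pow_eq_one h5) ⟨d, h2⟩
  have h7 : (stab W).toAddSubgroup = ⊤ := AddSubgroup.eq_top_of_card_eq _ (h1.trans (by rw [hK, h6]))
  have h8 : c * w⁻¹ ∈ stab W := (h7 ▸ AddSubgroup.mem_top _ : c * w⁻¹ ∈ (stab W).toAddSubgroup)
  simpa [h0] using h8 w hw

theorem card_le_sq [Fact p.Prime] [Fact q.Prime] (hK : Nat.card K = p ^ a) (ha : a = orderOf (p : ZMod q))
    {ζ : K} (hζ : IsPrimitiveRoot ζ q) (F : Subfield K) (hF : ζ + ζ⁻¹ ∈ F) :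
    Nat.card K ≤ Nat.card F ^ 2 := by
  have h0 := hζ.ne_zero (NeZero.ne q)
  let f : F × F →+ K := AddMonoidHom.mk' (fun m => m.1 + m.2 * ζ) fun m n => by simp; ring
  rw [sq, ← Nat.card_prod]
  refine Nat.card_le_card_of_surjective f fun c => irr hK ha hζ f.range ?_ (w := 1) ⟨(1, 0), by simp [f]⟩
    one_ne_zero c
  rintro _ ⟨m, rfl⟩
  refine ⟨(-m.2, m.1 + m.2 * ⟨_, hF⟩), ?_⟩
  simp only [f, AddMonoidHom.mk'_apply, Subfield.coe_neg, Subfield.coe_add, Subfield.coe_mul]
  field_simp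
  ring

omit [Finite K] in
theorem exists_eig {V : Type*} [AddCommGroup V] [Module K V] (f : Module.End K V) (s : Finset K) {v : V}
    (hv : v ≠ 0) (h : Polynomial.aeval f (∏ c ∈ s, (Polynomial.X - Polynomial.C c)) v = 0) :
    ∃ c ∈ s, ∃ w, w ≠ 0 ∧ f w = c • w := by
  classical
  induction s using Finset.induction_on with
  | empty => exact absurd (by simpa using h) hv
  | insert c s hc ih =>
    rw [Finset.prod_insert hc, map_mul, Module.End.mul_apply] at h
    by_cases h1 : Polynomial.aeval f (∏ c ∈ s, (Polynomial.X - Polynomial.C c)) v = 0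
    · obtain ⟨d, hd, h2⟩ := ih h1
      exact ⟨d, Finset.mem_insert_of_mem hd, h2⟩
    · refine ⟨c, Finset.mem_insert_self _ _, _, h1, ?_⟩
      simpa [sub_eq_zero] using h

end Field

variable {p q a : ℕ} {T : Type*} [Group T]

/-- `σ` has order `q` and fixes every proper invariant subgroup of the `p`-group `T` pointwise -/
structure Crit (p q : ℕ) (σ : MulAut T) : Prop where
  pg : IsPGroup p T
  pow : σ ^ q = 1
  ne : σ ≠ 1
  min : ∀ A : Subgroup T, A ≠ ⊤ → (∀ t ∈ A, σ t ∈ A) → ∀ t ∈ A, σ t = t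

/-- an eigencharacter -/
structure Ch {K : Type*} [Field K] (σ : MulAut T) (ζ : K) (l : T → K) : Prop where
  mul : ∀ s t, l (s * t) = l s + l t
  eqv : ∀ t, l (σ t) = ζ * l t
  ne : ∃ t, l t ≠ 0

variable {σ : MulAut T}

theorem pow_mem_inv {A : Subgroup T} (h : ∀ t ∈ A, σ t ∈ A) (n : ℕ) : ∀ t ∈ A, (σ ^ n) t ∈ A := by
  induction n with
  | zero => exact fun t ht => ht
  | succ n ih => exact fun t ht => by rw [pow_succ', MulAut.mul_apply]; exact h _ (ih t ht)

theorem pow_fix {t : T} (h : σ t = t) (n : ℕ) : (σ ^ n) t = t := by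
  induction n with
  | zero => rfl
  | succ n ih => rw [pow_succ', MulAut.mul_apply, ih, h]

theorem Crit.zpow (h : Crit p q σ) {j : ℕ} (hj : j.Coprime q) : Crit p q (σ ^ j) := by
  obtain ⟨i, hi⟩ : ∃ i, (σ ^ j) ^ i = σ := exists_pow_eq_self_of_coprime
    (hj.coprime_dvd_right (orderOf_dvd_of_pow_eq_one h.pow))
  refine ⟨h.pg, by rw [← pow_mul, mul_comm, pow_mul, h.pow, one_pow], fun e => h.ne ?_, fun A hA h1 t ht => ?_⟩
  · rw [← hi, e, one_pow]
  · exact pow_fix (h.min A hA (hi ▸ pow_mem_inv h1 i) t ht) j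

variable [hp : Fact p.Prime] [hq : Fact q.Prime]

theorem Crit.not_fix (h : Crit p q σ) (hpq : p ≠ q) (h2 : ∀ u, σ (u⁻¹ * σ u) = u⁻¹ * σ u) : False := by
  apply h.ne
  ext u
  have h4 : ∀ k : ℕ, (σ ^ k) u = u * (u⁻¹ * σ u) ^ k := by
    intro k
    induction k with
    | zero => simp
    | succ k ih =>
      rw [pow_succ', MulAut.mul_apply, ih, map_mul, map_pow, h2, pow_succ', ← mul_assoc,
        mul_inv_cancel_left]
  have h5 := h4 q
  rw [h.pow, MulAut.one_apply, left_eq_mul] at h5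
  obtain ⟨k, hk⟩ := h.pg (u⁻¹ * σ u)
  refine (inv_mul_eq_one.1 (orderOf_eq_one_iff.1 ?_)).symm
  exact Nat.eq_one_of_dvd_coprimes (Nat.Coprime.pow_right k ((Nat.coprime_primes hq.out hp.out).2 hpq.symm))
    (orderOf_dvd_of_pow_eq_one h5) (orderOf_dvd_of_pow_eq_one hk)

theorem Crit.top (h : Crit p q σ) (hpq : p ≠ q) {S : Subgroup T} (hS : ∀ u, u⁻¹ * σ u ∈ S) : S = ⊤ := by
  by_contra h1
  exact h.not_fix hpq fun u => h.min S h1 (fun t ht => by simpa using S.mul_mem ht (hS t)) _ (hS u)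

section
variable {K : Type*} [Field K] {ζ : K} {l : T → K}

/-- the character as a homomorphism -/
def Ch.hom (c : Ch σ ζ l) : T →* Multiplicative K :=
  MonoidHom.mk' (fun t => Multiplicative.ofAdd (l t)) fun s t => by rw [c.mul, ofAdd_add]

theorem Ch.mem_ker (c : Ch σ ζ l) {t : T} : t ∈ c.hom.ker ↔ l t = 0 := Iff.rfl

theorem Ch.one (c : Ch σ ζ l) : l 1 = 0 := c.mem_ker.1 c.hom.ker.one_mem

theorem Ch.inv (c : Ch σ ζ l) (t : T) : l t⁻¹ = -l t := by
  rw [eq_neg_iff_add_eq_zero, ← c.mul, inv_mul_cancel, c.one]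

theorem Ch.pow (c : Ch σ ζ l) (n : ℕ) (t : T) : l ((σ ^ n) t) = ζ ^ n * l t := by
  induction n with
  | zero => simp
  | succ n ih => rw [pow_succ', MulAut.mul_apply, c.eqv, ih, pow_succ', mul_assoc]

theorem Ch.comm (c : Ch σ ζ l) (s t : T) : l ⁅s, t⁆ = 0 := by
  simp only [commutatorElement_def, c.mul, c.inv]; ring

omit hp hq in
theorem Crit.fix (h : Crit p q σ) (c : Ch σ ζ l) {t : T} (ht : l t = 0) : σ t = t := by
  refine h.min c.hom.ker (fun e => ?_) (fun t ht => ?_) t ht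
  · obtain ⟨t, ht⟩ := c.ne
    exact ht (c.mem_ker.1 (e ▸ mem_top t))
  · rw [c.mem_ker] at ht ⊢
    rw [c.eqv, ht, mul_zero]

theorem Ch.zero (c : Ch σ ζ l) (h1 : ζ ≠ 1) {t : T} (ht : σ t = t) : l t = 0 := by
  have := c.eqv t
  rw [ht] at this
  by_contra h0
  exact h1 (mul_right_cancel₀ h0 (this.symm.trans (one_mul _).symm))

theorem Crit.cen (h : Crit p q σ) (hpq : p ≠ q) (c : Ch σ ζ l) {t : T} (ht : l t = 0) (u : T) :
    Commute t u := by
  by_contra hne
  have h1 : centralizer (c.hom.ker : Set T) ≠ ⊤ := fun e =>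
    hne (mem_centralizer_iff.1 (e ▸ mem_top u : u ∈ centralizer (c.hom.ker : Set T)) t ht)
  have h2 := h.min _ h1 fun s hs => mem_centralizer_iff.2 fun d hd => by
    rw [← h.fix c hd, ← map_mul, ← map_mul, mem_centralizer_iff.1 hs d hd]
  refine h.not_fix hpq fun u => h2 _ (mem_centralizer_iff.2 fun d hd => ?_)
  have h5 := h.fix c (c.hom.normal_ker.conj_mem d hd u)
  rw [map_mul, map_mul, map_inv, h.fix c hd] at h5
  calc d * (u⁻¹ * σ u) = u⁻¹ * (u * d * u⁻¹) * σ u := by group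
    _ = _ := by rw [← h5]; group

variable [Finite K]

/-- the image of an invariant subgroup is trivial or everything -/
theorem Ch.surj_on (c : Ch σ ζ l) (hK : Nat.card K = p ^ a) (ha : a = orderOf (p : ZMod q)) {η : K}
    (hη : IsPrimitiveRoot η q) {A : Subgroup T} (hA : ∀ t ∈ A, ∃ s ∈ A, l s = η * l t) {t : T} (ht : t ∈ A)
    (h0 : l t ≠ 0) (k : K) : ∃ s ∈ A, l s = k := by
  refine irr hK ha hη (AddSubgroup.toSubgroup.symm (A.map c.hom)) ?_ (w := l t) ⟨t, ht, rfl⟩ h0 k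
  rintro w ⟨s, hs, h1⟩
  obtain ⟨u, hu, h2⟩ := hA s hs
  exact ⟨u, hu, congrArg Multiplicative.ofAdd (h2.trans (congrArg (η * ·) h1))⟩

theorem Ch.surj (c : Ch σ ζ l) (hK : Nat.card K = p ^ a) (ha : a = orderOf (p : ZMod q))
    (hζ : IsPrimitiveRoot ζ q) : Function.Surjective l := fun k => by
  obtain ⟨t, ht⟩ := c.ne
  obtain ⟨s, -, hs⟩ := c.surj_on hK ha hζ (A := ⊤) (fun t _ => ⟨σ t, trivial, c.eqv t⟩) (mem_top t) ht k
  exact ⟨s, hs⟩

variable [Finite T]

theorem Crit.exists_ch (h : Crit p q σ) (hpq : p ≠ q) (hK : Nat.card K = p ^ a) (hζ : IsPrimitiveRoot ζ q) :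
    ∃ j : ℕ, j.Coprime q ∧ ∃ l : T → K, Ch (σ ^ j) ζ l := by
  have := Fintype.ofFinite K
  have hc : CharP K p := (CharP.charP_iff_prime_eq_zero hp.out).2 (pow_eq_zero_iff'.1 (show (p : K) ^ a = 0 by
    rw [← Nat.cast_pow, ← hK, Nat.card_eq_fintype_card, FiniteField.cast_card_eq_zero])).1
  obtain ⟨N, -, hN, h1⟩ := H61.exists_normal_index_prime h.pg (R := ⊥) fun e => h.ne (MulEquiv.ext fun t => by
    rw [mem_bot.1 (e ▸ mem_top t : t ∈ (⊥ : Subgroup T)), map_one, map_one])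
  let e : T ⧸ N ≃* Multiplicative (ZMod p) := mulEquivOfPrimeCardEq h1 (by simp)
  let μ : Additive T →+ K := (ZMod.castHom dvd_rfl K).toAddMonoidHom.comp
    (MonoidHom.toAdditiveLeft (e.toMonoidHom.comp (QuotientGroup.mk' N)))
  have hμ : μ ≠ 0 := fun h0 => by
    obtain ⟨t, ht⟩ := QuotientGroup.mk'_surjective N (e.symm (Multiplicative.ofAdd 1))
    have := DFunLike.congr_fun h0 (Additive.ofMul t)
    simp only [QuotientGroup.mk'_apply] at ht
    simp [μ, ht] at this
  let Φ : Module.End K (Additive T →+ K) :=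
    { toFun := fun f => f.comp (MonoidHom.toAdditive σ.toMonoidHom)
      map_add' := fun _ _ => rfl
      map_smul' := fun _ _ => rfl }
  have hΦ : ∀ (n : ℕ) (f : Additive T →+ K) (t : T), (Φ ^ n) f (.ofMul t) = f (.ofMul ((σ ^ n) t)) := by
    intro n
    induction n with
    | zero => intro f t; rfl
    | succ n ih => intro f t; rw [pow_succ, Module.End.mul_apply, ih, pow_succ']; rfl
  obtain ⟨η, h2, w, h3, h4⟩ := exists_eig Φ (Polynomial.nthRootsFinset q (1 : K)) hμ (by
    rw [← Polynomial.X_pow_sub_one_eq_prod hq.out.pos hζ]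
    simp only [map_sub, map_pow, Polynomial.aeval_X, map_one, LinearMap.sub_apply, Module.End.one_apply]
    rw [sub_eq_zero]
    exact AddMonoidHom.ext fun t => (hΦ q μ t.toMul).trans (by rw [h.pow]; rfl))
  rw [Polynomial.mem_nthRootsFinset hq.out.pos] at h2
  have c : Ch σ η fun t => w (.ofMul t) := ⟨fun s t => by rw [ofMul_mul, map_add],
    fun t => DFunLike.congr_fun h4 (.ofMul t), by
      by_contra! h5
      exact h3 (AddMonoidHom.ext fun t => h5 t.toMul)⟩
  have h5 : η ≠ 1 := fun e => by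
    obtain ⟨t, ht⟩ := c.ne
    have := h.top hpq (S := c.hom.ker) fun u => by rw [c.mem_ker, c.mul, c.inv, c.eqv, e]; ring
    exact ht (c.mem_ker.1 (this ▸ mem_top t))
  have h6 : IsPrimitiveRoot η q := orderOf_eq_prime h2 h5 ▸ IsPrimitiveRoot.orderOf η
  obtain ⟨j, h7, rfl⟩ := h6.eq_pow_of_pow_eq_one hζ.pow_eq_one
  refine ⟨j, (Nat.coprime_of_lt_prime (fun e => hζ.ne_one hq.out.one_lt ?_) h7 hq.out).symm, _,
    c.mul, c.pow j, c.ne⟩
  rw [e, pow_zero]

theorem Crit.card_le (h : Crit p q σ) (hpq : p ≠ q) (hK : Nat.card K = p ^ a) (ha : a = orderOf (p : ZMod q))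
    (hζ : IsPrimitiveRoot ζ q) (c : Ch σ ζ l) :
    Nat.card T ≤ p ^ (if a % 2 = 1 then a else 3 * a / 2) ∧ c.hom.ker ≤ commutator T := by
  have hs := c.surj hK ha hζ
  have h0 := hζ.ne_zero (NeZero.ne q)
  have h1 : ∀ r s t : T, Commute ⁅r, s⁆ t := fun r s t => h.cen hpq c (c.comm r s) t
  have hml : ∀ r s t : T, ⁅r * s, t⁆ = ⁅r, t⁆ * ⁅s, t⁆ := fun r s t => by
    calc ⁅r * s, t⁆ = r * ⁅s, t⁆ * r⁻¹ * ⁅r, t⁆ := by simp only [commutatorElement_def]; group
      _ = _ := by rw [← (h1 s t r).eq, mul_inv_cancel_right, (h1 s t _).eq]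
  have hl : ∀ r s t : T, l r = l s → ⁅r, t⁆ = ⁅s, t⁆ := fun r s t e => by
    rw [← mul_inv_cancel_left s r, hml,
      (h.cen hpq c (t := s⁻¹ * r) (by rw [c.mul, c.inv, e]; ring) t).commutator_eq, mul_one]
  choose g hg using hs
  let B : K → K → T := fun u v => ⁅g u, g v⁆
  have hB : ∀ s t, B (l s) (l t) = ⁅s, t⁆ := fun s t => by
    rw [show B (l s) (l t) = ⁅s, g (l t)⁆ from hl _ _ _ (hg _), ← commutatorElement_inv, hl _ _ _ (hg _),
      commutatorElement_inv]
  have b1 : ∀ u v w, B (u + v) w = B u w * B v w := fun u v w => by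
    rw [← hg u, ← hg v, ← hg w, ← c.mul, hB, hB, hB, hml]
  have b2 : ∀ u v, (B u v)⁻¹ = B v u := fun u v => commutatorElement_inv _ _
  have b3 : ∀ u v w, B w (u + v) = B w u * B w v := fun u v w => by
    rw [← b2, b1, (h1 _ _ _).eq, mul_inv_rev, b2, b2]
  have b4 : ∀ u v, B (ζ * u) (ζ * v) = B u v := fun u v => by
    rw [← hg u, ← hg v, ← c.eqv, ← c.eqv, hB, hB, ← map_commutatorElement, h.fix c (c.comm _ _)]
  have b5 : ∀ u, B u 0 = 1 := fun u => by rw [← hg u, ← c.one, hB, commutatorElement_one_right]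
  let A : AddSubgroup K :=
    { carrier := {k | ∀ u, B u (k * u) = 1}
      add_mem' := fun hk hm u => by rw [add_mul, b3, hk, hm, one_mul]
      zero_mem' := fun u => by rw [zero_mul, b5]
      neg_mem' := fun {k} hk u => by
        have := b3 (-k * u) (k * u) u
        rwa [hk, mul_one, ← add_mul, neg_add_cancel, zero_mul, b5, eq_comm] at this }
  have hA : ζ + ζ⁻¹ ∈ stab A := fun k hk u => by
    have e1 := hk (u + ζ * u)
    rw [mul_add, b1, b3, b3, hk, hk, one_mul, mul_one] at e1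
    rw [show k * u = ζ * (ζ⁻¹ * (k * u)) by field_simp, b4, ← b3] at e1
    rw [← e1]
    congr 1
    ring
  let f : Multiplicative K →* T := MonoidHom.mk' (fun k => B 1 k.toAdd) fun u v => b3 _ _ _
  have hf : ∀ r s : T, ⁅r, s⁆ ∈ f.range := by
    let S : Subgroup T :=
      { carrier := {u | ∀ v, ⁅u, v⁆ ∈ f.range}
        one_mem' := fun v => by simp
        mul_mem' := fun hr hs v => by rw [hml]; exact mul_mem (hr v) (hs v)
        inv_mem' := fun {r} hr v => by
          have h2 := hml r⁻¹ r v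
          rw [inv_mul_cancel, commutatorElement_one_left, eq_comm, mul_eq_one_iff_eq_inv] at h2
          rw [h2]; exact inv_mem (hr v) }
    have hS : S = ⊤ := by
      by_contra hS
      have := c.zero (hζ.ne_one hq.out.one_lt) (h.min S hS (fun r hr v => by
        rw [← σ.apply_symm_apply v, ← map_commutatorElement, h.fix c (c.comm _ _)]; exact hr _) (g 1)
        fun v => ⟨.ofAdd (l v), by rw [← hB, hg]; rfl⟩)
      exact one_ne_zero ((hg 1).symm.trans this)
    exact fun r => (hS ▸ mem_top r : r ∈ S)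
  have hle : f.range ≤ c.hom.ker := by rintro _ ⟨k, rfl⟩; exact c.comm _ _
  have hn : f.range.Normal := ⟨fun t ht u => by
    rwa [← (h.cen hpq c (hle ht) u).eq, mul_inv_cancel_right]⟩
  have hcm : ∀ x y : T ⧸ f.range, x * y = y * x := fun x y => by
    obtain ⟨r, rfl⟩ := QuotientGroup.mk_surjective x
    obtain ⟨s, rfl⟩ := QuotientGroup.mk_surjective y
    rw [← QuotientGroup.mk_mul, ← QuotientGroup.mk_mul, QuotientGroup.eq]
    simpa [commutatorElement_def, mul_assoc] using hf s⁻¹ r⁻¹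
  let d : T →* T ⧸ f.range := MonoidHom.mk' (fun t => (t⁻¹ * σ t : T)) fun s t => by
    simp only [mul_inv_rev, map_mul, QuotientGroup.mk_mul]
    rw [hcm (t⁻¹ : T) (s⁻¹ : T), mul_assoc, mul_assoc, ← mul_assoc ((t⁻¹ : T) : T ⧸ f.range), hcm (t⁻¹ : T),
      mul_assoc]
  have hd : d.range = ⊤ := by
    have := h.top hpq (S := d.range.comap (QuotientGroup.mk' _)) fun u => ⟨u, rfl⟩
    rw [← map_comap_eq_self_of_surjective (QuotientGroup.mk'_surjective _) d.range, this,
      map_top_of_surjective _ (QuotientGroup.mk'_surjective _)]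
  have e1 : Nat.card d.ker = Nat.card f.range := by
    have a1 := d.ker.card_mul_index
    have a2 := f.range.card_mul_index
    rw [index_ker, hd, card_top] at a1
    exact Nat.eq_of_mul_eq_mul_right Nat.card_pos (a1.trans a2.symm)
  have e2 : f.range = c.hom.ker := eq_of_le_of_card_ge hle (e1 ▸ card_le_of_le fun t ht => by
    change ((t⁻¹ * σ t : T) : T ⧸ f.range) = 1
    rw [h.fix c ht, inv_mul_cancel, QuotientGroup.mk_one])
  refine ⟨?_, e2 ▸ by rintro _ ⟨k, rfl⟩; exact commutator_mem_commutator (mem_top _) (mem_top _)⟩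
  have e3 : Nat.card T = Nat.card f.range * p ^ a := by
    rw [← c.hom.ker.card_mul_index, e2, index_ker, MonoidHom.range_eq_top.2 fun k => ⟨g k.toAdd, congrArg Multiplicative.ofAdd (hg _)⟩,
      card_top, ← hK]
    rfl
  have e4 : Nat.card (stab A) * Nat.card f.range ≤ p ^ a := by
    rw [← index_ker, ← hK, ← show Nat.card (Multiplicative K) = Nat.card K from rfl, ← f.ker.card_mul_index]
    refine Nat.mul_le_mul_right _ (card_le_of_le (H := (stab A).toAddSubgroup.toSubgroup) fun k hk => ?_)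
    have : k.toAdd * 1 ∈ A := hk 1 fun u => by rw [one_mul]; exact commutatorElement_self _
    have h3 := this 1
    rwa [mul_one, mul_one] at h3
  have e5 := card_le_sq hK ha hζ _ hA
  obtain ⟨b, m, e6, e7⟩ := sub_card hK (stab A)
  rw [e6] at e4
  rw [hK, e6, ← pow_mul, Nat.pow_le_pow_iff_right hp.out.one_lt] at e5
  have e8 : b ≤ a := (Nat.pow_le_pow_iff_right hp.out.one_lt).1
    ((Nat.le_mul_of_pos_right _ Nat.card_pos).trans e4)
  have e9 : Nat.card f.range ≤ p ^ (a - b) := Nat.le_of_mul_le_mul_left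
    (by rwa [← pow_add, Nat.add_sub_cancel' e8]) (pow_pos hp.out.pos b)
  rw [e3]
  refine (Nat.mul_le_mul_right _ e9).trans ?_
  rw [← pow_add, Nat.pow_le_pow_iff_right hp.out.one_lt]
  split_ifs with h2
  · have : m = 1 := by
      rcases m with _ | _ | _ | m
      · omega
      · rfl
      · omega
      · rcases b with _ | b
        · omega
        · nlinarith
    rw [this] at e7
    omega
  · omega

end

end Cfsg.Agent.H8.Sch
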