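import Cfsg.Agent.H8.Nonsolv
import Cfsg.Agent.H69.Base
import Cfsg.Agent.S0071

set_option autoImplicit false

/-! Groups all of whose non-abelian subgroups are self-normalizing. -/

namespace Cfsg.Agent.H8

open Subgroup Cfsg.Agent.H69

/-- Every non-abelian subgroup is self-normalizing. -/
def SN (G : Type*) [Group G] : Prop :=
  ∀ H : Subgroup G, ¬ IsMulCommutative H → normalizer (H : Set G) = H

variable {G : Type*} [Group G]

theorem SN.comm (h : SN G) {H : Subgroup G} {g : G} (hg : g ∈ normalizer (H : Set G)) (hgH : g ∉ H)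
    {x y : G} (hx : x ∈ H) (hy : y ∈ H) : Commute x y := by
  by_contra hc
  exact hgH (h H (fun hH => hc (congrArg Subtype.val (hH.is_comm.comm ⟨x, hx⟩ ⟨y, hy⟩))) ▸ hg)

theorem SN.of_injective {M : Type*} [Group M] (h : SN G) (f : M →* G) (hf : Function.Injective f) :
    SN M := by
  intro H hH
  refine le_antisymm (fun g hg => ?_) le_normalizer
  by_contra hgH
  refine hH ⟨⟨fun x y => Subtype.ext (hf ?_)⟩⟩
  have := h.comm (le_normalizer_map f (mem_map_of_mem f hg))
    (fun e => hgH ((mem_map_iff_mem hf).1 e)) (mem_map_of_mem f x.2) (mem_map_of_mem f y.2)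
  simpa using this.eq

theorem SN.comm_of_normal (h : SN G) {K : Subgroup G} [K.Normal] (hK : K ≠ ⊤) {x y : G}
    (hx : x ∈ K) (hy : y ∈ K) : Commute x y := by
  obtain ⟨g, hg⟩ : ∃ g, g ∉ K := by
    by_contra hc
    push Not at hc
    exact hK ((eq_top_iff' K).2 hc)
  exact h.comm (by rw [normalizer_eq_top]; exact mem_top g) hg hx hy

variable [Finite G]

theorem SN.comm_of_lt (h : SN G) {p : ℕ} [Fact p.Prime] {E P : Subgroup G} (hP : IsPGroup p P)
    (hE : E < P) {x y : G} (hx : x ∈ E) (hy : y ∈ E) : Commute x y := by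
  obtain ⟨g, -, hg, hn⟩ := exists_mem_normalizer_of_lt hP hE
  exact h.comm hn hg hx hy

theorem SN.false_of_cyclic_quot (h : SN G) (Q : Subgroup G) [Q.Normal] (T : Sylow 2 G) {t g : G}
    (htQ : t ∉ Q) (htT : t ∈ (T : Subgroup G)) (hT : (T : Subgroup G) ≤ Q ⊔ zpowers t)
    (hg : Odd (orderOf g)) {x : G} (hx : x ∈ Q) : Commute g x := by
  have hs := QuotientGroup.mk'_surjective Q
  have hle : ((T.mapSurjective hs : Sylow 2 (G ⧸ Q)) : Subgroup (G ⧸ Q)) ≤
      zpowers (QuotientGroup.mk' Q t) := by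
    rw [Sylow.coe_mapSurjective, ← MonoidHom.map_zpowers]
    refine (map_mono hT).trans ?_
    rw [Subgroup.map_sup, (Subgroup.map_eq_bot_iff _).2 (QuotientGroup.ker_mk' Q).ge, bot_sup_eq]
  have heven : Even (Nat.card (G ⧸ Q)) := by
    have hnb : ((T.mapSurjective hs : Sylow 2 (G ⧸ Q)) : Subgroup (G ⧸ Q)) ≠ ⊥ := by
      intro e
      have : QuotientGroup.mk' Q t ∈ ((T.mapSurjective hs : Sylow 2 (G ⧸ Q)) : Subgroup (G ⧸ Q)) :=
        mem_map_of_mem _ htT
      rw [e, mem_bot] at this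
      exact htQ ((QuotientGroup.eq_one_iff t).1 this)
    obtain ⟨k, hk0, hk⟩ := (T.mapSurjective hs).2.nontrivial_iff_card.1 ((nontrivial_iff_ne_bot _).2 hnb)
    exact even_iff_two_dvd.2 ((hk ▸ dvd_pow_self 2 hk0.ne' :
      2 ∣ Nat.card ((T.mapSurjective hs : Sylow 2 (G ⧸ Q)) : Subgroup (G ⧸ Q))).trans
      (card_subgroup_dvd_card _))
  obtain ⟨K, hK⟩ := exists_index_two_of_isCyclic heven (T.mapSurjective hs) (isCyclic_of_le hle)
  have hK' : (K.comap (QuotientGroup.mk' Q)).index = 2 := (index_comap_of_surjective K hs).trans hK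
  have := normal_of_index_eq_two hK'
  refine h.comm_of_normal (K := K.comap (QuotientGroup.mk' Q)) (fun e => ?_)
    (mem_of_sq_mem_of_odd hg (sq_mem_of_index_two hK' g)) ?_
  · rw [e, index_top] at hK'; omega
  · rw [mem_comap, show QuotientGroup.mk' Q x = 1 from (QuotientGroup.eq_one_iff x).2 hx]
    exact one_mem _

theorem SN.sylow_comm (h : SN G) (P : Sylow 2 G)
    (hno : ¬ ∃ N : Subgroup G, N.Normal ∧ N.IsComplement' (P : Subgroup G)) {a b : G}
    (ha : a ∈ (P : Subgroup G)) (hb : b ∈ (P : Subgroup G)) : Commute a b := by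
  by_contra hab
  rw [S0071.result P] at hno
  push Not at hno
  obtain ⟨Q₀, hQ₀, g₀, hg₀, ho₀, hc₀⟩ := hno
  obtain ⟨Q, -, ⟨hQ, g, hg, ho, hc⟩, hmax⟩ := Finite.exists_le_maximal
    (p := fun Q : Subgroup G => IsPGroup 2 Q ∧ ∃ g ∈ normalizer (Q : Set G), Odd (orderOf g) ∧
      g ∉ centralizer (Q : Set G)) ⟨P.2.to_le hQ₀, g₀, hg₀, Nat.coprime_two_right.1 ho₀, hc₀⟩
  obtain ⟨R, hR⟩ := hQ.exists_le_sylow
  have hQR : Q < R := by
    refine lt_of_le_of_ne hR fun e => ?_
    obtain ⟨k, hk⟩ := (sylOf_top P).exists_conj (sylOf_top R)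
    have hgQ : g ∉ Q := fun hgQ => hc (by
      obtain ⟨j, hj⟩ := isPGroup_iff_mem.1 hQ g hgQ
      rw [orderOf_eq_one_iff.1 (Nat.Coprime.eq_one_of_dvd ((Nat.coprime_two_right.2 ho).pow_right j)
        (orderOf_dvd_of_pow_eq_one hj))]
      exact one_mem _)
    have := h.comm hg hgQ (x := k * a * k⁻¹) (y := k * b * k⁻¹)
      (by rw [e, hk.2]; exact conj_mem_cj.2 ha) (by rw [e, hk.2]; exact conj_mem_cj.2 hb)
    exact hab (by simpa [mul_assoc] using this.map (MulAut.conj k⁻¹))
  have hQC : Q ≤ centralizer (Q : Set G) := fun x hx y hy => h.comm_of_lt R.2 hQR hy hx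
  obtain ⟨r, hrR, hrQ, hrN⟩ := exists_mem_normalizer_of_lt R.2 hQR
  obtain ⟨T, hT, hle⟩ := exists_sylOf_ge (p := 2) (U := (R : Subgroup G) ⊓ normalizer (Q : Set G))
    (H := normalizer (Q : Set G)) (R.2.to_le inf_le_left) inf_le_right
  have hQT : Q ≤ T := (le_inf hR le_normalizer).trans hle
  have hrT : r ∈ T := hle ⟨hrR, hrN⟩
  have hNC : normalizer (Q : Set G) ≤ normalizer (centralizer (Q : Set G) : Set G) := fun x hx =>
    cj_eq_self_iff.1 (by rw [cj_centralizer, cj_eq_of_mem_normalizer hx])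
  have hS := hT.inf_normal (centralizer_le_normalizer _) hNC
  have hTC : T ⊓ centralizer (Q : Set G) ≤ Q := by
    refine hmax ⟨hS.isPGroup, g, ?_, ho, fun e => hc fun y hy => e y ⟨hQT hy, hQC hy⟩⟩ (le_inf hQT hQC)
    obtain ⟨c, hcC, e⟩ := hS.exists_conj (hS.cj_of_mem_normalizer (hNC hg))
    rw [← cj_eq_self_iff, e, cj_eq_self_iff]
    exact centralizer_le_normalizer _ fun y hy => h.comm (hNC hg) hc hy.2 hcC
  have hE : T ≤ Q ⊔ zpowers r := by
    by_contra hne
    have hlt : Q ⊔ zpowers r < T :=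
      lt_of_le_of_ne (sup_le hQT (zpowers_le.2 hrT)) fun e => hne e.ge
    exact hrQ (hTC ⟨hrT, fun y hy => h.comm_of_lt hT.isPGroup hlt (mem_sup_left hy)
      (mem_sup_right (mem_zpowers r))⟩)
  refine hc fun y hy => ?_
  have := SN.false_of_cyclic_quot (h.of_injective (normalizer (Q : Set G)).subtype (subtype_injective _))
    (Q.subgroupOf _) hT.toSylow (t := ⟨r, hrN⟩) (g := ⟨g, hg⟩) hrQ hrT (by
      rw [hT.coe_toSylow, ← map_le_map_iff_of_injective (subtype_injective _), Subgroup.map_sup,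
        MonoidHom.map_zpowers, subgroupOf_map_subtype, subgroupOf_map_subtype,
        inf_eq_left.2 le_normalizer]
      exact inf_le_left.trans hE) (by rwa [← orderOf_coe]) (x := ⟨y, le_normalizer hy⟩) hy
  exact (congrArg Subtype.val this).symm

theorem SN.isCyclic_of_central (h : SN G) (P : Sylow 2 G)
    (hP : ∀ a ∈ (P : Subgroup G), ∀ b ∈ (P : Subgroup G), Commute a b) {t : G} (ht : orderOf t = 2)
    (htc : t ∈ center G) {x y : G} (hxy : ¬ Commute x y) : IsCyclic (P : Subgroup G) := by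
  have : IsMulCommutative (P : Subgroup G) := ⟨⟨fun a b => Subtype.ext (hP a a.2 b b.2)⟩⟩
  have htP : t ∈ (P : Subgroup G) := mem_sylow_of_mem_normalizer P (k := 1)
    (by rw [pow_one, ← ht, pow_orderOf_eq_one]) (center_le_normalizer _ htc)
  have htG : t ∉ _root_.commutator G := fun e => ne_one_of_orderOf_two ht
    (H4.eq_one_of_mem_commutator_of_abelian_sylow P htP (fun g _ => mem_center_iff.1 htc g) e)
  obtain ⟨a, m, hm, ham⟩ := Nat.exists_eq_two_pow_mul_odd (Nat.card_pos (α := G)).ne'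
  let ψ : G →* Abelianization G := (powMonoidHom m).comp Abelianization.of
  have hK : ψ.ker ≠ ⊤ := fun e => by
    have h1 : Abelianization.of (t ^ m) = 1 := by rw [map_pow]; exact (e ▸ mem_top t : t ∈ ψ.ker)
    obtain ⟨j, rfl⟩ := hm
    rw [pow_succ, pow_mul, ← ht, pow_orderOf_eq_one, one_pow, one_mul] at h1
    exact htG (Abelianization.ker_of G ▸ h1)
  have hodd : ∀ w : G, Odd (orderOf w) → w ∈ ψ.ker := fun w hw => by
    have : w ^ m = 1 := orderOf_dvd_iff_pow_eq_one.1
      (((Nat.coprime_two_right.2 hw).pow_right a).dvd_of_dvd_mul_left (ham ▸ orderOf_dvd_natCard w))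
    change Abelianization.of w ^ m = 1
    rw [← map_pow, this, map_one]
  let W : Subgroup G :=
    { carrier := {w | Odd (orderOf w)}
      one_mem' := by simp
      inv_mem' := by simp
      mul_mem' := fun {u v} hu hv => (Odd.mul hu hv).of_dvd_nat
        (h.comm_of_normal hK (hodd u hu) (hodd v hv)).orderOf_mul_dvd_mul_orderOf }
  have hWn : W.Normal := ⟨fun w hw g => by change Odd (orderOf _); rwa [orderOf_conj']⟩
  have hs := QuotientGroup.mk'_surjective W
  have hq : IsPGroup 2 (⊤ : Subgroup (G ⧸ W)) := by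
    rintro ⟨z, hz⟩
    obtain ⟨z, rfl⟩ := hs z
    refine ⟨a, Subtype.ext ((QuotientGroup.eq_one_iff (z ^ 2 ^ a)).2 ?_)⟩
    exact hm.of_dvd_nat (orderOf_dvd_of_pow_eq_one (by rw [← pow_mul, ← ham, pow_card_eq_one']))
  have hdec : ∀ z : G, ∃ w ∈ W, ∃ s ∈ (P : Subgroup G), z = w * s := fun z => by
    have : QuotientGroup.mk' W z ∈ ((P.mapSurjective hs : Sylow 2 (G ⧸ W)) : Subgroup (G ⧸ W)) :=
      ((P.mapSurjective hs).3 hq le_top).le (mem_top _)
    obtain ⟨s, hs', e⟩ := this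
    refine ⟨z * s⁻¹, ?_, s, hs', by group⟩
    rw [← QuotientGroup.eq_one_iff, QuotientGroup.mk_mul, QuotientGroup.mk_inv]
    exact mul_inv_eq_one.2 e.symm
  obtain ⟨s, hsP, w, hw, hsw⟩ : ∃ s ∈ (P : Subgroup G), ∃ w ∈ W, ¬ Commute w s := by
    by_contra hc
    push Not at hc
    obtain ⟨w, hw, s, hs, rfl⟩ := hdec x
    obtain ⟨w', hw', s', hs', rfl⟩ := hdec y
    exact hxy (((h.comm_of_normal hK (hodd w hw) (hodd w' hw')).mul_right (hc s' hs' w hw)).mul_left
      ((hc s hs w' hw').symm.mul_right (hP s hs s' hs')))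
  have hle : (P : Subgroup G) ≤ zpowers s := by
    intro u hu
    have huH : u ∈ W ⊔ zpowers s := by
      by_contra hc
      refine hsw (h.comm ?_ hc (mem_sup_left hw) (mem_sup_right (mem_zpowers s)))
      rw [← cj_eq_self_iff, cj_sup, cj_eq_of_normal, cj_zpowers, (hP u hu s hsP).eq,
        mul_inv_cancel_right]
    obtain ⟨v, hv, z, hz, rfl⟩ := mem_sup_of_normal_left.1 huH
    have hvP : v ∈ (P : Subgroup G) := by
      simpa using mul_mem hu (inv_mem (zpowers_le.2 hsP hz))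
    obtain ⟨j, hj⟩ := isPGroup_iff_mem.1 P.2 v hvP
    rwa [orderOf_eq_one_iff.1 (Nat.Coprime.eq_one_of_dvd ((Nat.coprime_two_right.2 hv).pow_right j)
      (orderOf_dvd_of_pow_eq_one hj)), one_mul]
  exact isCyclic_of_le hle

theorem SN.abC [IsSimpleGroup G] (hG : ¬ IsMulCommutative G) (h : SN G) : AbC G := by
  intro t x y ht hx hy
  by_contra hxy
  obtain ⟨R, hR⟩ := (IsPGroup.of_card (p := 2) (n := 1) (G := zpowers t)
    (by rw [Nat.card_zpowers, ht, pow_one])).exists_le_sylow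
  have hab : ∀ a ∈ (R : Subgroup G), ∀ b ∈ (R : Subgroup G), Commute a b := fun a ha b hb => by
    refine h.sylow_comm R ?_ ha hb
    rintro ⟨N, hN, hc⟩
    rcases hN.eq_bot_or_eq_top with e | e
    · rw [e, isComplement'_bot_left] at hc
      exact sylow_not_normal_of_simple hG R (hc ▸ normal_top)
    · rw [e, isComplement'_top_left] at hc
      exact sylow_not_normal_of_simple hG R (hc ▸ normal_bot)
  have hRC : (R : Subgroup G) ≤ centralizer {t} := fun a ha =>
    mem_centralizer_singleton.2 (hab a ha t (hR (mem_zpowers t)))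
  have : IsCyclic ((R : Subgroup G).subgroupOf (centralizer {t})) := SN.isCyclic_of_central (h.of_injective (centralizer {t}).subtype (subtype_injective _))
    (R.subtype hRC) (fun a ha b hb => Subtype.ext (hab a ha b hb))
    (t := ⟨t, mem_centralizer_singleton.2 (Commute.refl t)⟩) ((orderOf_coe _).symm.trans ht)
    (mem_center_iff.2 fun g => Subtype.ext (mem_centralizer_singleton.1 g.2))
    (x := ⟨x, mem_centralizer_singleton.2 hx⟩) (y := ⟨y, mem_centralizer_singleton.2 hy⟩)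
    fun e => hxy (congrArg Subtype.val e)
  exact sylow_not_isCyclic_of_simple hG R
    (isCyclic_of_surjective _ (subgroupOfEquivOfLe hRC).surjective)

end Cfsg.Agent.H8
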