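import Mathlib

set_option autoImplicit false

namespace Cfsg.Agent.H8

variable {X : Type*} [Group X]

theorem shin_norm (σ : MulAut X) (a : X) (d : ℕ) :
    ((List.range d).map (fun i => (σ ^ i) (a * (σ a)⁻¹))).prod = a * ((σ ^ d) a)⁻¹ := by
  induction d with
  | zero => simp
  | succ d ih =>
    rw [List.range_succ, List.map_append, List.prod_append, ih]
    simp only [List.map_cons, List.map_nil, List.prod_cons, List.prod_nil, mul_one, map_mul,
      map_inv, pow_succ, MulAut.mul_apply]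
    group

theorem shin_comm (σ : MulAut X) (e : ℕ) (x : X) : σ ((σ ^ e) x) = (σ ^ e) (σ x) := by
  rw [← MulAut.mul_apply, ← MulAut.mul_apply, ← pow_succ, ← pow_succ']

theorem shin_pow_fix (σ : MulAut X) (e : ℕ) {x : X} (h : σ x = x) : (σ ^ e) x = x := by
  induction e with
  | zero => simp
  | succ e ih => rw [pow_succ, MulAut.mul_apply, h, ih]

theorem shin_fix (σ : MulAut X) (e : ℕ) {a : X} (hg : (σ ^ e) (a * (σ a)⁻¹) = a * (σ a)⁻¹) :
    σ (((σ ^ e) a)⁻¹ * a) = ((σ ^ e) a)⁻¹ * a := by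
  rw [map_mul, map_inv] at hg
  rw [map_mul, map_inv, shin_comm]
  have : ((σ ^ e) (σ a))⁻¹ = ((σ ^ e) a)⁻¹ * (a * (σ a)⁻¹) := by rw [← hg]; group
  rw [this]; group

theorem card_eq_of_fibers {S A B : Type*} (f : S → A)
    (h : ∀ a, Nonempty ({s // f s = a} ≃ B)) : Nat.card S = Nat.card A * Nat.card B := by
  rw [← Nat.card_prod]
  exact Nat.card_congr (((Equiv.sigmaFiberEquiv f).symm.trans
    (Equiv.sigmaCongrRight fun a => (h a).some)).trans (Equiv.sigmaEquivProd A B))

end Cfsg.Agent.H8
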